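import Cfsg.Agent.Lib.Cores.Basic
import Cfsg.Agent.Lib.Fusion.Basic

/-!
A symmetric group of degree three acting without fixed points on a group of order prime to three: elementary facts.
-/

set_option autoImplicit false
set_option linter.style.haveILetI false
set_option linter.unusedSectionVars false

namespace CfsgLib.FpfSThree

open Subgroup CfsgLib
open CfsgLib.Fusion (conjSub)

universe u

theorem exists_fixed_three {α : Type*} [Finite α] (f : α → α) (h3 : ∀ x, f (f (f x)) = x)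
    (hc : ¬ 3 ∣ Nat.card α) : ∃ x, f x = x := by
  haveI : Fact (Nat.Prime 3) := ⟨Nat.prime_three⟩
  haveI := Fintype.ofFinite α
  rw [Nat.card_eq_fintype_card] at hc
  let e : Equiv.Perm α := ⟨f, fun x => f (f x), h3, h3⟩
  exact Equiv.Perm.exists_fixed_point_of_prime (p := 3) (n := 1) (σ := e) hc
    (Equiv.ext fun x => by simp only [pow_succ, pow_zero, one_mul, Equiv.Perm.mul_apply]; exact h3 x)

/-- A map of order three fixes a point of an invariant set of a transitive action. -/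
theorem exists_fixed_orbit {G K α : Type*} [Group G] [Finite G] [Group K] [MulAction K α] (e : K ≃ G)
    (h3 : ¬ 3 ∣ Nat.card G) (a : α) (f : α → α) (hf : ∀ b ∈ MulAction.orbit K a, f b ∈ MulAction.orbit K a)
    (hf3 : ∀ b ∈ MulAction.orbit K a, f (f (f b)) = b) : ∃ b ∈ MulAction.orbit K a, f b = b := by
  haveI : Finite K := Finite.of_equiv _ e.symm
  haveI : Finite (MulAction.orbit K a) := Finite.Set.finite_range _
  obtain ⟨b, hb⟩ := exists_fixed_three (fun b : MulAction.orbit K a => (⟨f b, hf b b.2⟩ : MulAction.orbit K a))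
    (fun b => Subtype.ext (hf3 b b.2)) (fun hd => h3 (by
      rw [← Nat.card_congr e]
      refine hd.trans ?_
      rw [Nat.card_congr (MulAction.orbitEquivQuotientStabilizer K a), ← Subgroup.index_eq_card]
      exact Subgroup.index_dvd_card _))
  exact ⟨b, b.2, congrArg Subtype.val hb⟩

/-- The hypothesis: `σ` of order three and `τ` of order two generate a fixed-point-free symmetric group. -/
structure Hyp {G : Type u} [Group G] (σ τ : MulAut G) : Prop where
  three : ¬ 3 ∣ Nat.card G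
  sigma : ∀ g, σ (σ (σ g)) = g
  tau : ∀ g, τ (τ g) = g
  tst : ∀ g, τ (σ (τ g)) = σ (σ g)
  fpf : ∀ g, σ g = g → τ g = g → g = 1

/-- A subgroup invariant under both automorphisms. -/
structure Inv {G : Type u} [Group G] (σ τ : MulAut G) (H : Subgroup G) : Prop where
  smem : ∀ x ∈ H, σ x ∈ H
  tmem : ∀ x ∈ H, τ x ∈ H

variable {G : Type u} [Group G] {σ τ : MulAut G}

/-- The fixed points of `σ`. -/
def fix (σ : MulAut G) : Subgroup G where
  carrier := {g | σ g = g}
  one_mem' := map_one σ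
  mul_mem' := fun {a b} (ha : σ a = a) (hb : σ b = b) => show σ (a * b) = a * b by rw [map_mul, ha, hb]
  inv_mem' := fun {a} (ha : σ a = a) => show σ a⁻¹ = a⁻¹ by rw [map_inv, ha]

theorem mem_fix {g : G} : g ∈ fix σ ↔ σ g = g := Iff.rfl

/-- The action of an automorphism on the conjugate of an element. -/
theorem map_conj (φ : MulAut G) (g x : G) : φ (g * x * g⁻¹) = φ g * φ x * (φ g)⁻¹ := by
  rw [map_mul, map_mul, map_inv]

/-- The restriction of an automorphism to an invariant subgroup. -/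
def restr (φ ψ : MulAut G) (H : Subgroup G) (h1 : ∀ x ∈ H, φ x ∈ H) (h2 : ∀ x ∈ H, ψ x ∈ H)
    (hl : ∀ x, ψ (φ x) = x) (hr : ∀ x, φ (ψ x) = x) : MulAut ↥H where
  toFun x := ⟨φ x, h1 x x.2⟩
  invFun x := ⟨ψ x, h2 x x.2⟩
  left_inv x := Subtype.ext (hl x)
  right_inv x := Subtype.ext (hr x)
  map_mul' x y := Subtype.ext (map_mul φ (x : G) y)

namespace Hyp

/-- The restricted `σ`. -/
def rs (h : Hyp σ τ) {H : Subgroup G} (hH : Inv σ τ H) : MulAut ↥H :=
  restr σ (σ * σ) H hH.smem (fun x hx => hH.smem _ (hH.smem x hx)) h.sigma h.sigma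

/-- The restricted `τ`. -/
def rt (h : Hyp σ τ) {H : Subgroup G} (hH : Inv σ τ H) : MulAut ↥H :=
  restr τ τ H hH.tmem hH.tmem h.tau h.tau

@[simp] theorem rs_coe (h : Hyp σ τ) {H : Subgroup G} (hH : Inv σ τ H) (x : ↥H) : (h.rs hH x : G) = σ x := rfl

@[simp] theorem rt_coe (h : Hyp σ τ) {H : Subgroup G} (hH : Inv σ τ H) (x : ↥H) : (h.rt hH x : G) = τ x := rfl

variable [Finite G]

theorem sub (h : Hyp σ τ) {H : Subgroup G} (hH : Inv σ τ H) : Hyp (h.rs hH) (h.rt hH) where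
  three := fun hd => h.three (hd.trans (Subgroup.card_subgroup_dvd_card H))
  sigma := fun x => Subtype.ext (h.sigma x)
  tau := fun x => Subtype.ext (h.tau x)
  tst := fun x => Subtype.ext (h.tst x)
  fpf := fun x hs ht => Subtype.ext (h.fpf x (congrArg Subtype.val hs) (congrArg Subtype.val ht))

theorem inv_top (_h : Hyp σ τ) : Inv σ τ (⊤ : Subgroup G) := ⟨fun _ _ => trivial, fun _ _ => trivial⟩

theorem inv_of_characteristic (_h : Hyp σ τ) (H : Subgroup G) [hc : H.Characteristic] : Inv σ τ H := by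
  have key : ∀ φ : MulAut G, ∀ x ∈ H, φ x ∈ H := fun φ x hx => by
    have := Subgroup.characteristic_iff_map_eq.1 hc φ
    exact this ▸ Subgroup.mem_map_of_mem _ hx
  exact ⟨key σ, key τ⟩

theorem inv_inf {H K : Subgroup G} (hH : Inv σ τ H) (hK : Inv σ τ K) : Inv σ τ (H ⊓ K) :=
  ⟨fun x hx => ⟨hH.smem x hx.1, hK.smem x hx.2⟩, fun x hx => ⟨hH.tmem x hx.1, hK.tmem x hx.2⟩⟩

theorem inv_sup {H K : Subgroup G} (hH : Inv σ τ H) (hK : Inv σ τ K) : Inv σ τ (H ⊔ K) := by
  constructor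
  · intro x hx
    have h1 : H ⊔ K ≤ (H ⊔ K).comap (σ : MulAut G).toMonoidHom :=
      sup_le (fun y hy => mem_sup_left (hH.smem y hy)) (fun y hy => mem_sup_right (hK.smem y hy))
    exact h1 hx
  · intro x hx
    have h1 : H ⊔ K ≤ (H ⊔ K).comap (τ : MulAut G).toMonoidHom :=
      sup_le (fun y hy => mem_sup_left (hH.tmem y hy)) (fun y hy => mem_sup_right (hK.tmem y hy))
    exact h1 hx

theorem map_mem_iff {φ : MulAut G} {H : Subgroup G} (hH : ∀ x ∈ H, φ x ∈ H) {x : G} : φ x ∈ H ↔ x ∈ H := by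
  refine ⟨fun hx => ?_, hH x⟩
  obtain ⟨⟨y, hy⟩, e⟩ := (Finite.injective_iff_surjective.1
    (show Function.Injective (fun y : H => (⟨φ y, hH y y.2⟩ : H)) from
      fun a b e => Subtype.ext (φ.injective (congrArg Subtype.val e)))) ⟨φ x, hx⟩
  rwa [← φ.injective (congrArg Subtype.val e)]

theorem inv_centralizer {H : Subgroup G} (hH : Inv σ τ H) : Inv σ τ (centralizer (H : Set G)) := by
  have key : ∀ φ : MulAut G, (∀ x ∈ H, φ x ∈ H) → ∀ x ∈ centralizer (H : Set G), φ x ∈ centralizer (H : Set G) := by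
    refine fun φ hφ x hx => mem_centralizer_iff.2 fun y hy => ?_
    obtain ⟨z, rfl⟩ := φ.surjective y
    rw [← map_mul, ← map_mul, mem_centralizer_iff.1 hx z ((map_mem_iff hφ).1 hy)]
  exact ⟨key σ hH.smem, key τ hH.tmem⟩

theorem inv_normalizer {H : Subgroup G} (hH : Inv σ τ H) : Inv σ τ (normalizer (H : Set G)) := by
  have key : ∀ φ : MulAut G, (∀ x ∈ H, φ x ∈ H) → ∀ x ∈ normalizer (H : Set G), φ x ∈ normalizer (H : Set G) := by
    refine fun φ hφ x hx => mem_normalizer_iff.2 fun y => ?_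
    obtain ⟨z, rfl⟩ := φ.surjective y
    rw [map_mem_iff hφ, ← map_conj, map_mem_iff hφ]
    exact mem_normalizer_iff.1 hx z
  exact ⟨key σ hH.smem, key τ hH.tmem⟩

/-! ### Fixed points -/

theorem tau_mem_fix (h : Hyp σ τ) {c : G} (hc : c ∈ fix σ) : τ c ∈ fix σ := by
  show σ (τ c) = τ c
  have h1 : σ (σ c) = c := by rw [show σ c = c from hc, show σ c = c from hc]
  have h2 := congrArg (fun x => τ x) (h.tst c)
  simp only [h.tau, h1] at h2
  exact h2

theorem tau_eq_inv (h : Hyp σ τ) {c : G} (hc : c ∈ fix σ) : τ c = c⁻¹ := by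
  have hinj : Function.Injective (fun d : ↥(fix σ) =>
      (⟨(d : G)⁻¹ * τ d, mul_mem (inv_mem d.2) (h.tau_mem_fix d.2)⟩ : ↥(fix σ))) := by
    intro a b e
    have e' : (a : G)⁻¹ * τ a = (b : G)⁻¹ * τ b := congrArg Subtype.val e
    have h1 : τ ((a : G) * (b : G)⁻¹) = (a : G) * (b : G)⁻¹ := by
      rw [map_mul, map_inv]
      calc τ a * (τ b)⁻¹ = a * ((a : G)⁻¹ * τ a) * (τ b)⁻¹ := by group
        _ = a * ((b : G)⁻¹ * τ b) * (τ b)⁻¹ := by rw [e']
        _ = a * (b : G)⁻¹ := by group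
    exact Subtype.ext (mul_inv_eq_one.1 (h.fpf _ (mul_mem a.2 (inv_mem b.2)) h1))
  obtain ⟨d, hd⟩ := Finite.injective_iff_surjective.1 hinj ⟨c, hc⟩
  have hd' : (d : G)⁻¹ * τ d = c := congrArg Subtype.val hd
  rw [← hd', map_mul, map_inv, h.tau, mul_inv_rev, inv_inv]

theorem fix_comm (h : Hyp σ τ) {a b : G} (ha : a ∈ fix σ) (hb : b ∈ fix σ) : a * b = b * a := by
  have := h.tau_eq_inv (mul_mem ha hb)
  rw [map_mul, h.tau_eq_inv ha, h.tau_eq_inv hb, mul_inv_rev] at this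
  have h2 := congrArg (·⁻¹) this
  simp only [mul_inv_rev, inv_inv] at h2
  exact h2.symm

theorem fix_odd (h : Hyp σ τ) : Odd (Nat.card ↥(fix σ)) := by
  rw [Nat.odd_iff, ← Nat.two_dvd_ne_zero]
  intro hd
  haveI : Fact (Nat.Prime 2) := ⟨Nat.prime_two⟩
  obtain ⟨x, hx⟩ := exists_prime_orderOf_dvd_card' 2 hd
  have h1 : (x : G) * x = 1 := by
    have := congrArg Subtype.val (pow_orderOf_eq_one x)
    rwa [hx, pow_two] at this
  have h2 : τ (x : G) = x := by rw [h.tau_eq_inv x.2]; exact inv_eq_of_mul_eq_one_left h1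
  have h3 := h.fpf x x.2 h2
  rw [show x = 1 from Subtype.ext h3, orderOf_one] at hx
  norm_num at hx

theorem eq_one_of_two (h : Hyp σ τ) {x : G} (hx : x ∈ fix σ) {n : ℕ} (hn : x ^ 2 ^ n = 1) : x = 1 := by
  have h1 : orderOf x ∣ Nat.card ↥(fix σ) := Subgroup.orderOf_dvd_natCard _ hx
  obtain ⟨k, _, hk⟩ := (Nat.dvd_prime_pow Nat.prime_two).1 (orderOf_dvd_of_pow_eq_one hn)
  rw [← orderOf_eq_one_iff, hk]
  rcases Nat.eq_zero_or_pos k with rfl | hk0
  · rfl
  · rw [hk] at h1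
    exact absurd (even_iff_two_dvd.2 ((dvd_pow_self 2 hk0.ne').trans h1)) (Nat.not_even_iff_odd.2 h.fix_odd)

theorem exists_sq (h : Hyp σ τ) {c : G} (hc : c ∈ fix σ) : ∃ d ∈ fix σ, d * d = c := by
  obtain ⟨m, hm⟩ := h.fix_odd
  refine ⟨c ^ (m + 1), pow_mem hc _, ?_⟩
  have h1 : c ^ Nat.card ↥(fix σ) = 1 :=
    congrArg Subtype.val (pow_card_eq_one' (x := (⟨c, hc⟩ : ↥(fix σ))))
  rw [← pow_add, show m + 1 + (m + 1) = Nat.card ↥(fix σ) + 1 by omega, pow_succ, h1, one_mul]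

/-- A `σ`-invariant coset of an invariant subgroup has a fixed point. -/
theorem exists_fix_coset (h : Hyp σ τ) {N : Subgroup G} (hN : ∀ x ∈ N, σ x ∈ N) {g : G}
    (hg : g⁻¹ * σ g ∈ N) : ∃ c ∈ fix σ, g⁻¹ * c ∈ N := by
  obtain ⟨n, hn⟩ := exists_fixed_three (fun n : ↥N => (⟨g⁻¹ * σ g * σ n, mul_mem hg (hN n n.2)⟩ : ↥N))
    (fun n => Subtype.ext (by
      simp only [map_mul, map_inv, h.sigma]
      group))
    (fun hd => h.three (hd.trans (Subgroup.card_subgroup_dvd_card N)))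
  refine ⟨g * n, ?_, by simp⟩
  show σ (g * (n : G)) = g * n
  have h1 : g⁻¹ * σ g * σ (n : G) = n := congrArg Subtype.val hn
  conv_rhs => rw [← h1]
  rw [map_mul]; group

/-- An element conjugate to its image under `σ` is conjugate to a fixed element. -/
theorem exists_conj_fix (h : Hyp σ τ) {x g : G} (hx : g * x * g⁻¹ = σ x) : ∃ a : G, a * x * a⁻¹ ∈ fix σ := by
  have horb : ∀ y, y ∈ MulAction.orbit (ConjAct G) x ↔ ∃ a : G, a * x * a⁻¹ = y := by
    intro y
    constructor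
    · rintro ⟨k, rfl⟩; exact ⟨ConjAct.ofConjAct k, rfl⟩
    · rintro ⟨a, rfl⟩; exact ⟨ConjAct.toConjAct a, rfl⟩
  obtain ⟨b, hb, hbf⟩ := exists_fixed_orbit ConjAct.ofConjAct.toEquiv h.three x σ (fun b hb => by
    obtain ⟨a, rfl⟩ := (horb b).1 hb
    exact (horb _).2 ⟨σ a * g, by rw [map_conj, ← hx]; group⟩) (fun b _ => h.sigma b)
  obtain ⟨a, rfl⟩ := (horb b).1 hb
  exact ⟨a, hbf⟩

theorem not_conj_of_two (h : Hyp σ τ) {x : G} {n : ℕ} (hx : x ^ 2 ^ n = 1) (hx1 : x ≠ 1) (g : G) :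
    g * x * g⁻¹ ≠ σ x := by
  intro e
  obtain ⟨a, ha⟩ := h.exists_conj_fix e
  have h1 := h.eq_one_of_two ha (n := n) (by rw [conj_pow, hx, mul_one, mul_inv_cancel])
  exact hx1 (conj_eq_one_iff.1 h1)

/-! ### Quotients -/

/-- The automorphism induced on a quotient. -/
noncomputable def qAut (φ : MulAut G) (N : Subgroup G) [N.Normal] (hφ : ∀ x ∈ N, φ x ∈ N) : MulAut (G ⧸ N) :=
  QuotientGroup.congr N N φ (Subgroup.eq_of_le_of_card_ge (by rintro _ ⟨x, hx, rfl⟩; exact hφ x hx)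
    (Subgroup.card_map_of_injective φ.injective).ge)

theorem qAut_mk (φ : MulAut G) (N : Subgroup G) [N.Normal] (hφ : ∀ x ∈ N, φ x ∈ N) (x : G) :
    qAut φ N hφ (x : G ⧸ N) = (φ x : G ⧸ N) := rfl

theorem quot (h : Hyp σ τ) (N : Subgroup G) [N.Normal] (hN : Inv σ τ N) :
    Hyp (qAut σ N hN.smem) (qAut τ N hN.tmem) where
  three := fun hd => h.three (hd.trans (Subgroup.card_quotient_dvd_card N))
  sigma := fun x => by
    induction x using QuotientGroup.induction_on with | _ g => simp only [qAut_mk, h.sigma]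
  tau := fun x => by
    induction x using QuotientGroup.induction_on with | _ g => simp only [qAut_mk, h.tau]
  tst := fun x => by
    induction x using QuotientGroup.induction_on with | _ g => simp only [qAut_mk, h.tst]
  fpf := fun x => by
    induction x using QuotientGroup.induction_on with | _ g => ?_
    intro hs ht
    rw [qAut_mk] at hs ht
    obtain ⟨c, hc, hcN⟩ := h.exists_fix_coset hN.smem (QuotientGroup.eq.1 hs.symm)
    have hgc : (g : G ⧸ N) = c := QuotientGroup.eq.2 hcN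
    have hgc' : (τ g : G ⧸ N) = (τ c : G ⧸ N) := by
      rw [← qAut_mk τ N hN.tmem g, hgc, qAut_mk]
    rw [hgc', h.tau_eq_inv hc, hgc] at ht
    obtain ⟨d, hd, rfl⟩ := h.exists_sq hc
    rw [hgc]
    have h1 : ((d * d : G) : G ⧸ N) * (d * d : G) = 1 := by
      nth_rewrite 1 [← ht]
      rw [QuotientGroup.mk_inv, inv_mul_cancel]
    obtain ⟨m, hm⟩ := h.fix_odd
    have h2 : (d * d) ^ Nat.card ↥(fix σ) = 1 :=
      congrArg Subtype.val (pow_card_eq_one' (x := (⟨d * d, mul_mem hd hd⟩ : ↥(fix σ))))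
    have h3 : ((d * d : G) : G ⧸ N) ^ Nat.card ↥(fix σ) = 1 := by rw [← QuotientGroup.mk_pow, h2]; rfl
    rwa [hm, pow_succ, pow_mul, pow_two, h1, one_pow, one_mul] at h3

/-! ### Invariant Sylow subgroups -/

theorem exists_inv_sylow (h : Hyp σ τ) (p : ℕ) [Fact p.Prime] :
    ∃ P : Sylow p G, Inv σ τ (P : Subgroup G) := by
  -- a `σ`-invariant one
  obtain ⟨P, hP⟩ : ∃ P : Sylow p G, ∀ x ∈ P, σ x ∈ P := by
    obtain ⟨P0⟩ : Nonempty (Sylow p G) := inferInstance
    have hσ : Function.Surjective (σ : MulAut G).toMonoidHom := σ.surjective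
    obtain ⟨P, hP⟩ := exists_fixed_three (fun P : Sylow p G => P.mapSurjective hσ)
      (fun P => Sylow.ext (by
        simp only [Sylow.coe_mapSurjective, Subgroup.map_map]
        convert Subgroup.map_id (P : Subgroup G) using 2
        exact MonoidHom.ext fun x => h.sigma x))
      (fun hd => h.three (hd.trans ((Sylow.card_dvd_index P0).trans (Subgroup.index_dvd_card _))))
    refine ⟨P, fun x hx => ?_⟩
    have h1 : σ x ∈ (P : Subgroup G).map (σ : MulAut G).toMonoidHom := mem_map_of_mem _ hx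
    rwa [← Sylow.coe_mapSurjective hσ, hP] at h1
  -- its image under `τ` is conjugate to it by a fixed element
  have hτ : Function.Surjective (τ : MulAut G).toMonoidHom := τ.surjective
  set Q : Sylow p G := P.mapSurjective hτ with hQ
  have hQm : ∀ x, x ∈ Q ↔ τ x ∈ P := by
    intro x
    show x ∈ (Q : Subgroup G) ↔ _
    rw [hQ, Sylow.coe_mapSurjective]
    constructor
    · rintro ⟨y, hy, rfl⟩
      show τ (τ y) ∈ P
      rwa [h.tau]
    · intro hx
      exact ⟨τ x, hx, h.tau x⟩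
  obtain ⟨g, hg⟩ := MulAction.exists_smul_eq G P Q
  have hgm : ∀ x, g * x * g⁻¹ ∈ Q ↔ x ∈ P := by
    intro x
    rw [← hg]
    show g * x * g⁻¹ ∈ ((g • P : Sylow p G) : Subgroup G) ↔ _
    rw [Sylow.coe_subgroup_smul, Subgroup.mem_pointwise_smul_iff_inv_smul_mem]
    simp [mul_assoc]
    rfl
  have hQs : ∀ x, σ x ∈ Q ↔ x ∈ Q := by
    intro x
    rw [hQm, hQm]
    have e : τ (σ x) = σ (σ (τ x)) := by
      have := h.tst (τ x); rw [h.tau] at this; exact this
    rw [e]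
    exact (map_mem_iff (H := (P : Subgroup G)) (φ := σ) hP).trans (map_mem_iff (H := (P : Subgroup G)) (φ := σ) hP)
  obtain ⟨c, hc, hcN⟩ := h.exists_fix_coset (N := normalizer ((P : Subgroup G) : Set G))
    (fun x hx => mem_normalizer_iff.2 fun y => by
      obtain ⟨z, rfl⟩ := σ.surjective y
      rw [map_mem_iff (H := (P : Subgroup G)) hP, ← map_conj, map_mem_iff (H := (P : Subgroup G)) hP]
      exact mem_normalizer_iff.1 hx z) (g := g) (mem_normalizer_iff.2 fun y => by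
      obtain ⟨z, rfl⟩ := σ.surjective y
      have e1 : σ g * σ z * (σ g)⁻¹ ∈ Q ↔ z ∈ P := by rw [← map_conj, hQs, hgm]
      have e2 : g⁻¹ * σ g * σ z * (g⁻¹ * σ g)⁻¹ ∈ P ↔ σ g * σ z * (σ g)⁻¹ ∈ Q := by
        rw [← hgm (g⁻¹ * σ g * σ z * (g⁻¹ * σ g)⁻¹)]
        rw [show g * (g⁻¹ * σ g * σ z * (g⁻¹ * σ g)⁻¹) * g⁻¹ = σ g * σ z * (σ g)⁻¹ by group]
      exact (map_mem_iff (H := (P : Subgroup G)) hP).trans (e2.trans e1).symm)
  have hcm : ∀ x, c * x * c⁻¹ ∈ Q ↔ x ∈ P := fun x => by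
    rw [show c * x * c⁻¹ = g * ((g⁻¹ * c) * x * (g⁻¹ * c)⁻¹) * g⁻¹ by group, hgm]
    exact (mem_normalizer_iff.1 hcN x).symm
  obtain ⟨d, hd, rfl⟩ := h.exists_sq hc
  refine ⟨d • P, ⟨fun x hx => ?_, fun x hx => ?_⟩⟩
  all_goals
    rw [Sylow.coe_subgroup_smul, Subgroup.mem_pointwise_smul_iff_inv_smul_mem] at hx ⊢
    simp only [MulAut.smul_def, MulAut.conj_inv_apply] at hx ⊢
  · have := hP _ hx
    rwa [map_mul, map_mul, map_inv, show σ d = d from hd] at this
  · have := (hcm _).2 hx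
    rw [hQm] at this
    simp only [map_mul, map_inv, h.tau_eq_inv hd, inv_inv, mul_inv_rev] at this
    rw [show d⁻¹ * τ x * d = d⁻¹ * d⁻¹ * (d * τ x * d⁻¹) * (d * d) by group]
    exact this

end Hyp

end CfsgLib.FpfSThree
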