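import Cfsg.Agent.Lib.FpfSThree.Simple
import Cfsg.Agent.S0033

/-!
A group of order prime to three with a fixed-point-free symmetric group of degree three is solvable.
-/

set_option autoImplicit false
set_option linter.style.haveILetI false
set_option linter.unusedSectionVars false

namespace CfsgLib.FpfSThree

open Subgroup CfsgLib Cfsg
open scoped commutatorElement

universe u

variable {G : Type u} [Group G] [Finite G] {σ τ : MulAut G}

/-- A normal nilpotent subgroup gives an invariant one. -/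
theorem Hyp.eq_bot_of_nilpotent (h : Hyp σ τ) (hns : ¬ Group.IsSolvable G)
    (hch : ∀ N : Subgroup G, N.Normal → Inv σ τ N → N = ⊥ ∨ N = ⊤) {N : Subgroup G} [N.Normal]
    (hN : Group.IsNilpotent ↥N) : N = ⊥ := by
  haveI := Cores.fittingSubgroup_characteristic (G := G)
  rcases hch (fittingSubgroup G) inferInstance (h.inv_of_characteristic _) with e | e
  · exact le_bot_iff.1 (e ▸ Cores.le_fittingSubgroup hN)
  · exfalso
    haveI := Cores.isNilpotent_fittingSubgroup (G := G)
    exact hns (Group.isSolvable_of_surjective (f := (fittingSubgroup G).subtype)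
      fun x => ⟨⟨x, e ▸ mem_top x⟩, rfl⟩)

/-- The minimal counterexample is simple. -/
theorem Hyp.simple_of_min (h : Hyp σ τ) (hns : ¬ Group.IsSolvable G)
    (hch : ∀ N : Subgroup G, N.Normal → Inv σ τ N → N = ⊥ ∨ N = ⊤) :
    ∀ N : Subgroup G, N.Normal → N = ⊥ ∨ N = ⊤ := by
  by_contra hcon
  push Not at hcon
  obtain ⟨K, hKn, hK0, hKt⟩ := hcon
  obtain ⟨N, ⟨hNn, hN0, hNK⟩, hmin⟩ := Set.exists_min_image
    {N : Subgroup G | N.Normal ∧ N ≠ ⊥ ∧ N ≤ K} (fun N => Nat.card ↥N) (Set.toFinite _) ⟨K, hKn, hK0, le_rfl⟩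
  haveI : N.Normal := hNn
  have hNt : N ≠ ⊤ := fun e => hKt (top_le_iff.1 (e ▸ hNK))
  have hle : ∀ L : Subgroup G, L.Normal → L ≤ N → L = ⊥ ∨ L = N := fun L hL hLN => by
    by_contra hc
    push Not at hc
    exact hc.2 (Subgroup.eq_of_le_of_card_ge hLN (hmin L ⟨hL, hc.1, hLN.trans hNK⟩))
  by_cases hσN : ∀ x ∈ N, σ x ∈ N
  · -- `N ⊓ τ N` is invariant
    set M := N.comap (τ : MulAut G).toMonoidHom with hM
    haveI : M.Normal := Subgroup.Normal.comap hNn _
    have hσM : ∀ x ∈ M, σ x ∈ M := fun x (hx : τ x ∈ N) => by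
      show τ (σ x) ∈ N
      have e : τ (σ x) = σ (σ (τ x)) := by
        have := h.tst (τ x); rw [h.tau] at this; exact this
      rw [e]; exact hσN _ (hσN _ hx)
    have hi : Inv σ τ (N ⊓ M) := by
      refine ⟨fun x hx => mem_inf.2 ⟨hσN x (mem_inf.1 hx).1, hσM x (mem_inf.1 hx).2⟩, fun x hx => mem_inf.2 ⟨(mem_inf.1 hx).2, ?_⟩⟩
      show τ (τ x) ∈ N
      rw [h.tau]; exact (mem_inf.1 hx).1
    have hbot : N ⊓ M = ⊥ := (hch _ inferInstance hi).resolve_right fun e => hNt (top_le_iff.1 (e ▸ inf_le_left))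
    have hC : ∀ c ∈ N, σ c = c → c = 1 := fun c hc hcf => by
      refine mem_bot.1 (hbot ▸ mem_inf.2 ⟨hc, ?_⟩)
      show τ c ∈ N
      rw [h.tau_eq_inv hcf]; exact inv_mem hc
    -- so `σ` is fixed-point-free on `N`
    let φ : ↥N ≃* ↥N := restr σ (σ * σ) N hσN (fun x hx => hσN _ (hσN x hx)) h.sigma h.sigma
    have hφ : MonoidHom.FixedPointFree (φ : ↥N →* ↥N) := fun x hx =>
      Subtype.ext (hC x x.2 (congrArg Subtype.val hx))
    obtain ⟨y, hy, hy1⟩ : ∃ y ∈ N, y ≠ 1 := by
      obtain ⟨a, ha⟩ := Subgroup.ne_bot_iff_exists_ne_one.1 hN0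
      exact ⟨a, a.2, fun e => ha (Subtype.ext e)⟩
    have hord : orderOf φ = 3 := by
      haveI : Fact (Nat.Prime 3) := ⟨Nat.prime_three⟩
      refine orderOf_eq_prime (MulEquiv.ext fun x => Subtype.ext (h.sigma x)) fun e => hy1 (hC y hy ?_)
      exact congrArg Subtype.val (DFunLike.congr_fun e ⟨y, hy⟩)
    exact hN0 (h.eq_bot_of_nilpotent hns hch (Cfsg.Agent.S0033.result φ hφ 3 Nat.prime_three hord))
  · -- the conjugates of `N` under `σ` centralise each other
    set N₁ := N.comap ((σ * σ : MulAut G)).toMonoidHom with hN₁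
    set N₂ := N.comap (σ : MulAut G).toMonoidHom with hN₂
    haveI : N₁.Normal := Subgroup.Normal.comap hNn _
    haveI : N₂.Normal := Subgroup.Normal.comap hNn _
    have m1 : ∀ n ∈ N, σ n ∈ N₁ := fun n hn => by
      show σ (σ (σ n)) ∈ N
      rw [h.sigma]; exact hn
    have m2 : ∀ n ∈ N, σ (σ n) ∈ N₂ := fun n hn => by
      show σ (σ (σ n)) ∈ N
      rw [h.sigma]; exact hn
    have b1 : N ⊓ N₁ = ⊥ := (hle _ inferInstance inf_le_left).resolve_right fun e => hσN fun x hx => by
      obtain ⟨⟨y, hy⟩, hyx⟩ := (Finite.injective_iff_surjective.1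
        (show Function.Injective (fun y : ↥N => (⟨σ (σ y), (mem_inf.1 (e.symm ▸ y.2 : (y : G) ∈ N ⊓ N₁)).2⟩ : ↥N)) from
          fun a b e' => Subtype.ext (σ.injective (σ.injective (congrArg Subtype.val e'))))) ⟨x, hx⟩
      have : σ (σ y) = x := congrArg Subtype.val hyx
      rw [← this, h.sigma]; exact hy
    have b2 : N ⊓ N₂ = ⊥ := (hle _ inferInstance inf_le_left).resolve_right fun e => hσN fun x hx =>
      (mem_inf.1 (e.symm ▸ hx : x ∈ N ⊓ N₂)).2
    have b12 : N₁ ⊓ N₂ = ⊥ := eq_bot_iff.2 fun x hx => by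
      have h1 : σ x ∈ N ⊓ N₁ := mem_inf.2 ⟨(mem_inf.1 hx).2, by
        show σ (σ (σ x)) ∈ N
        rw [h.sigma]
        have hx1 : σ (σ x) ∈ N := (mem_inf.1 hx).1
        have hx2 : σ x ∈ N := (mem_inf.1 hx).2
        have h2 : σ x ∈ N ⊓ N₂ := mem_inf.2 ⟨hx2, hx1⟩
        rw [b2, mem_bot] at h2
        rw [show x = 1 from σ.injective (h2.trans (map_one σ).symm)]
        exact one_mem N⟩
      rw [b1, mem_bot] at h1
      exact mem_bot.2 (σ.injective (h1.trans (map_one σ).symm))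
    have cm : ∀ (A B : Subgroup G) [A.Normal] [B.Normal], A ⊓ B = ⊥ → ∀ a ∈ A, ∀ b ∈ B, a * b = b * a :=
      fun A B hA hB e a ha b hb => Subgroup.commute_of_normal_of_disjoint A B hA hB (disjoint_iff.2 e) a b ha hb
    have c1 := cm N N₁ b1
    have c2 := cm N N₂ b2
    have c12 := cm N₁ N₂ b12
    set cc : G → G := fun n => n * σ n * σ (σ n) with hcc
    have hfix : ∀ n ∈ N, cc n ∈ fix σ := fun n hn => by
      show σ (n * σ n * σ (σ n)) = n * σ n * σ (σ n)
      rw [map_mul, map_mul, h.sigma, mul_assoc, ← c2 n hn _ (m2 n hn), ← mul_assoc, ← c1 n hn _ (m1 n hn)]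
    have hmul : ∀ n ∈ N, ∀ k ∈ N, cc n * cc k = cc (n * k) := fun n hn k hk => by
      simp only [hcc, map_mul]
      calc n * σ n * σ (σ n) * (k * σ k * σ (σ k))
          = n * σ n * (σ (σ n) * k) * σ k * σ (σ k) := by group
        _ = n * (σ n * k) * (σ (σ n) * σ k) * σ (σ k) := by rw [← c2 k hk _ (m2 n hn)]; group
        _ = n * (k * σ n) * (σ k * σ (σ n)) * σ (σ k) := by
          rw [← c1 k hk _ (m1 n hn), ← c12 _ (m1 k hk) _ (m2 n hn)]
        _ = n * k * (σ n * σ k) * (σ (σ n) * σ (σ k)) := by group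
    have hcomm : ∀ n ∈ N, ∀ k ∈ N, cc (n * k) = cc (k * n) := fun n hn k hk => by
      rw [← hmul n hn k hk, ← hmul k hk n hn, h.fix_comm (hfix n hn) (hfix k hk)]
    set D := N ⊓ centralizer (N : Set G) with hD
    haveI : D.Normal := inferInstance
    have hmemD : ∀ n ∈ N, ∀ k ∈ N, (k * n)⁻¹ * (n * k) ∈ D := fun n hn k hk => by
      set a := n * k with ha
      set b := k * n with hb
      have haN : a ∈ N := mul_mem hn hk
      have hbN : b ∈ N := mul_mem hk hn
      refine mem_inf.2 ⟨mul_mem (inv_mem hbN) haN, ?_⟩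
      have e : b⁻¹ * a = σ b * σ (σ b) * (σ a * σ (σ a))⁻¹ := by
        have e1 : a * (σ a * σ (σ a)) = b * (σ b * σ (σ b)) := by
          rw [← mul_assoc a, ← mul_assoc b]
          exact hcomm n hn k hk
        calc b⁻¹ * a = b⁻¹ * (a * (σ a * σ (σ a))) * (σ a * σ (σ a))⁻¹ := by group
          _ = σ b * σ (σ b) * (σ a * σ (σ a))⁻¹ := by rw [e1]; group
      rw [e]
      have hm : ∀ v ∈ N, σ v * σ (σ v) ∈ centralizer (N : Set G) := fun v hv => mul_mem
        (mem_centralizer_iff.2 fun y hy => c1 y hy _ (m1 v hv))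
        (mem_centralizer_iff.2 fun y hy => c2 y hy _ (m2 v hv))
      exact mul_mem (hm b hbN) (inv_mem (hm a haN))
    have hab : ∀ n ∈ N, ∀ k ∈ N, n * k = k * n := by
      rcases hle D inferInstance inf_le_left with e | e
      · intro n hn k hk
        have := hmemD n hn k hk
        rw [e, mem_bot] at this
        exact (inv_mul_eq_one.1 this).symm
      · intro n hn k hk
        exact mem_centralizer_iff.1 (mem_inf.1 (e.symm ▸ hk : k ∈ D)).2 n hn
    letI : CommGroup ↥N := { (inferInstance : Group ↥N) with mul_comm := fun a b => Subtype.ext (hab _ a.2 _ b.2) }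
    exact hN0 (h.eq_bot_of_nilpotent hns hch CommGroup.isNilpotent)

theorem Hyp.solvable : ∀ {G : Type u} [Group G] [Finite G] {σ τ : MulAut G}, Hyp σ τ → Group.IsSolvable G := by
  suffices H : ∀ n, ∀ (G : Type u) [Group G] [Finite G] (σ τ : MulAut G), Nat.card G = n → Hyp σ τ →
      Group.IsSolvable G from fun {G} _ _ {σ τ} h => H _ G σ τ rfl h
  intro n
  induction n using Nat.strong_induction_on with
  | _ n ih =>
  intro G _ _ σ τ hn h
  by_contra hns
  have hind : ∀ H : Subgroup G, Inv σ τ H → H ≠ ⊤ → Group.IsSolvable ↥H := fun H hH hHt =>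
    ih _ (hn ▸ lt_of_le_of_ne (Subgroup.card_le_card_group H) fun e => hHt ((Subgroup.card_eq_iff_eq_top H).1 e))
      ↥H _ _ rfl (h.sub hH)
  have hch : ∀ N : Subgroup G, N.Normal → Inv σ τ N → N = ⊥ ∨ N = ⊤ := fun N hNn hN => by
    by_contra hc
    push Not at hc
    haveI := hNn
    haveI := hind N hN hc.2
    have hlt : Nat.card (G ⧸ N) < n := by
      rw [← hn, N.card_eq_card_quotient_mul_card_subgroup]
      exact lt_mul_of_one_lt_right Nat.card_pos ((Subgroup.one_lt_card_iff_ne_bot _).2 hc.1)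
    haveI := ih _ hlt (G ⧸ N) _ _ rfl (h.quot N hN)
    exact hns (Group.isSolvable_of_ker_le_range N.subtype (QuotientGroup.mk' N)
      (by rw [QuotientGroup.ker_mk', Subgroup.range_subtype]))
  exact Min.false_of ⟨h, hns, h.simple_of_min hns hch, hind⟩

end CfsgLib.FpfSThree
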