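import Mathlib

/-!
In a ring of characteristic two a unit `u` with `u² + u + 1 = 0` centralises every solvable group of units of
order prime to six which it normalises.
-/

set_option autoImplicit false
set_option linter.style.haveILetI false
set_option linter.deprecated false

namespace CfsgLib.FpfSThree

open scoped commutatorElement

section Ring

variable {A : Type*} [Ring A]

/-- Three units `k`, `b = u k u⁻¹`, `z = k b k⁻¹ b⁻¹`, with `k u` again a root of `X² + X + 1`. -/
theorem root_sum (h2 : (1 : A) + 1 = 0) {u k b : Aˣ} (hu : (u : A) * u + u + 1 = 0)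
    (hv : ((k * u : Aˣ) : A) * (k * u : Aˣ) + (k * u : Aˣ) + 1 = 0) (hb : b * u = u * k) :
    ((k : A) * b + k) * u = 1 + k * b := by
  have h0 : ∀ x : A, x + x = 0 := fun x => by
    calc x + x = (1 + 1) * x := by rw [add_mul, one_mul]
      _ = 0 := by rw [h2, zero_mul]
  have hb' : (b : A) * u = u * k := by simpa using congrArg (Units.val : Aˣ → A) hb
  have huu : (u : A) * u = u + 1 := by
    have : (u : A) * u + u + 1 + (u + 1) = u + 1 := by rw [hu, zero_add]
    rwa [add_assoc ((u : A) * u), add_assoc ((u : A) * u), h0, add_zero] at this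
  push_cast at hv
  have e : (k : A) * u * (k * u) = k * b * (u + 1) := by
    calc (k : A) * u * (k * u) = k * ((u * k) * u) := by simp only [mul_assoc]
      _ = k * ((b * u) * u) := by rw [hb']
      _ = k * b * (u * u) := by simp only [mul_assoc]
      _ = k * b * (u + 1) := by rw [huu]
  rw [e] at hv
  have : ((k : A) * b + k) * u + (1 + k * b) = 0 := by
    rw [← hv]; noncomm_ring
  calc ((k : A) * b + k) * u = ((k : A) * b + k) * u + ((1 + k * b) + (1 + k * b)) := by
        rw [h0, add_zero]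
    _ = 1 + k * b := by rw [← add_assoc, this, zero_add]

variable (h2 : (1 : A) + 1 = 0)

include h2

theorem add_self_eq (x : A) : x + x = 0 := by
  calc x + x = (1 + 1) * x := by rw [add_mul, one_mul]
    _ = 0 := by rw [h2, zero_mul]

theorem eq_of_add {x y : A} (h : x + y = 0) : x = y := by
  calc x = x + (y + y) := by rw [add_self_eq h2, add_zero]
    _ = y := by rw [← add_assoc, h, zero_add]

/-- With `b k = z k b`, where `z` centralises `k` and `b`. -/
theorem root_comm {u k b z : Aˣ} (hu : (u : A) * u + u + 1 = 0)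
    (hv : ((k * u : Aˣ) : A) * (k * u : Aˣ) + (k * u : Aˣ) + 1 = 0) (hb : b * u = u * k)
    (hz : b * k = z * (k * b)) (hzk : Commute z k) (hzb : Commute z b) :
    ((b : A) * b + b + k * b + k) * u = (z + 1) * (k * b) ∧ z ^ 4 = 1 := by
  have E := root_sum h2 hu hv hb
  have h0 := add_self_eq h2
  have hb' : (b : A) * u = u * k := by simpa using congrArg (Units.val : Aˣ → A) hb
  have hz' : (b : A) * k = z * (k * b) := by simpa using congrArg (Units.val : Aˣ → A) hz
  have hzk' : (z : A) * k = k * z := by simpa using congrArg (Units.val : Aˣ → A) hzk.eq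
  have hzb' : (z : A) * b = b * z := by simpa using congrArg (Units.val : Aˣ → A) hzb.eq
  have e1 : (k : A) * (((b : A) * b + b + k * b + k) * u) = k * ((z + 1) * (k * b)) := by
    calc (k : A) * (((b : A) * b + b + k * b + k) * u)
        = ((k : A) * b + k) * (b * u) + k * (((k : A) * b + k) * u) := by noncomm_ring
      _ = ((k : A) * b + k) * u * k + k * (1 + k * b) := by rw [mul_assoc ((k : A) * b + k) (u : A) (k : A), ← hb', E]
      _ = (1 + k * b) * k + k * (1 + k * b) := by rw [E]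
      _ = (k + k) + (k * (b * k) + k * (k * b)) := by noncomm_ring
      _ = k * (z * (k * b)) + k * (k * b) := by rw [h0, zero_add, hz']
      _ = k * ((z + 1) * (k * b)) := by noncomm_ring
  have M := k.mul_right_inj.1 e1
  refine ⟨M, ?_⟩
  have e2 : (b : A) * (((b : A) + 1) * u) = 1 + z * (k * b) := by
    refine eq_of_add h2 ?_
    calc (b : A) * (((b : A) + 1) * u) + (1 + z * (k * b))
        = ((b : A) * b + b) * u + (1 + z * (k * b)) + ((1 + k * b) + (1 + k * b)) := by
          rw [h0, add_zero]; noncomm_ring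
      _ = (((b : A) * b + b) * u + ((k : A) * b + k) * u) + (z * (k * b) + k * b) + (1 + 1) := by
          rw [E]; noncomm_ring
      _ = ((z : A) + 1) * (k * b) + (z * (k * b) + k * b) + (1 + 1) := by
          rw [← add_mul, show (b : A) * b + b + ((k : A) * b + k) = b * b + b + k * b + k by abel, M]
      _ = (z * (k * b) + z * (k * b)) + (k * b + k * b) + (1 + 1) := by noncomm_ring
      _ = 0 := by rw [h0, h0, h2, add_zero, add_zero]
  have e3 : (k : A) * (((b : A) + 1) * u) = 1 + k * b := by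
    rw [← E]; noncomm_ring
  have w1 : ((b : A) + 1) * u = ↑b⁻¹ + k := by
    refine b.mul_right_inj.1 ?_
    rw [e2, mul_add, Units.mul_inv, ← hz']
  have w2 : ((b : A) + 1) * u = ↑k⁻¹ + b := by
    refine k.mul_right_inj.1 ?_
    rw [e3, mul_add, Units.mul_inv]
  -- `b + b⁻¹` commutes with `k`
  have w : (b : A) + ↑b⁻¹ = k + ↑k⁻¹ := by
    refine eq_of_add h2 ?_
    calc (b : A) + ↑b⁻¹ + (k + ↑k⁻¹) = (↑b⁻¹ + k) + (↑k⁻¹ + b) := by abel
      _ = 0 := by rw [← w1, ← w2, h0]
  have hc : (k : A) * (b + ↑b⁻¹) = ((b : A) + ↑b⁻¹) * k := by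
    rw [w, mul_add, add_mul, Units.mul_inv, Units.inv_mul]
  have c1 : k * b⁻¹ = z * (b⁻¹ * k) := by
    have : b⁻¹ * (b * k) * b⁻¹ = b⁻¹ * (z * (k * b)) * b⁻¹ := by rw [hz]
    rw [← mul_assoc b⁻¹ z, ← (hzb.inv_right).eq] at this
    calc k * b⁻¹ = b⁻¹ * (b * k) * b⁻¹ := by group
      _ = z * b⁻¹ * (k * b) * b⁻¹ := this
      _ = z * (b⁻¹ * k) := by group
  have c1' : (k : A) * ↑b⁻¹ = z * (↑b⁻¹ * k) := by simpa using congrArg (Units.val : Aˣ → A) c1
  -- multiply by `z` on the left and cancel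
  have q1 : ((z : A) + 1) * ((b : A) * b) = z * (z + 1) := by
    have h1 : (z : A) * (k * b + k * ↑b⁻¹) = z * ((b : A) * k + ↑b⁻¹ * k) := by
      rw [← mul_add, hc, add_mul]
    rw [mul_add, mul_add, ← hz', c1'] at h1
    have h2' : ((b : A) + z * (z * ↑b⁻¹)) = z * b + z * ↑b⁻¹ := by
      refine k.mul_left_inj.1 ?_
      simp only [add_mul, mul_assoc] at h1 ⊢
      exact h1
    have h3 : ((b : A) + z * (z * ↑b⁻¹)) * b = (z * b + z * ↑b⁻¹) * b := by rw [h2']
    simp only [add_mul, mul_assoc, Units.inv_mul, mul_one] at h3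
    refine eq_of_add h2 ?_
    calc ((z : A) + 1) * ((b : A) * b) + z * (z + 1)
        = ((b : A) * b + z * z) + (z * (b * b) + z) := by noncomm_ring
      _ = 0 := by rw [h3, h0]
  have q2 : ((z : A) + 1) * ((b : A) * b) = z * (z + 1) * (z * z) := by
    refine k.mul_left_inj.1 ?_
    have hz1 : ((z : A) + 1) * k = k * (z + 1) := by rw [add_mul, mul_add, hzk', one_mul, mul_one]
    calc ((z : A) + 1) * ((b : A) * b) * k = ((z : A) + 1) * (b * (b * k)) := by noncomm_ring
      _ = ((z : A) + 1) * (b * (z * (k * b))) := by rw [hz']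
      _ = ((z : A) + 1) * ((b * z) * (k * b)) := by noncomm_ring
      _ = ((z : A) + 1) * (z * ((b * k) * b)) := by rw [← hzb']; noncomm_ring
      _ = ((z : A) + 1) * (z * z * (k * (b * b))) := by rw [hz']; noncomm_ring
      _ = (z : A) * z * (((z : A) + 1) * k * (b * b)) := by noncomm_ring
      _ = (z : A) * z * (k * (((z : A) + 1) * (b * b))) := by rw [hz1]; noncomm_ring
      _ = (z : A) * z * (k * (z * (z + 1))) := by rw [q1]
      _ = z * (z + 1) * (z * z) * k := by
        have hzz : (k : A) * (z * (z + 1)) = z * (z + 1) * k := by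
          rw [← mul_assoc, ← hzk', mul_assoc, ← hz1, mul_assoc]
        rw [hzz]; noncomm_ring
  rw [q1] at q2
  have q3 : (z : A) * (((z : A) + 1) * (z * z + 1)) = 0 := by
    calc (z : A) * (((z : A) + 1) * (z * z + 1)) = z * (z + 1) * (z * z) + z * (z + 1) := by noncomm_ring
      _ = 0 := by rw [← q2, h0]
  rw [Units.mul_right_eq_zero] at q3
  refine Units.ext ?_
  push_cast
  refine eq_of_add h2 ?_
  calc (z : A) ^ 4 + 1
      = (z : A) ^ 4 + 1 + ((z * z * z + z * z * z) + (z * z + z * z) + ((z : A) + z)) := by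
        simp only [h0, add_zero]
    _ = ((z : A) + 1) * (((z : A) + 1) * (z * z + 1)) := by noncomm_ring
    _ = 0 := by rw [q3, mul_zero]

omit [Ring A] h2 in
/-- Three commuting units with product one. -/
theorem root_rel {R : Type*} [CommRing R] (h : (2 : R) = 0) {k b c : R} (h1 : (b + 1) * (b + k) = 0)
    (h3 : (c + 1) * (c + b) = 0) (h4 : (k + 1) * (k + c) = 0) (hp : k * b * c = 1) :
    (b + 1) ^ 2 * (b ^ 2 + b + 1) = 0 := by
  grobner

end Ring

section Main

variable {A : Type*} [Ring A] (h2 : (1 : A) + 1 = 0)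

include h2

/-- A unit `k` such that `k u` is again a root, with conjugates commuting with their commutators, is trivial. -/
theorem root_trivial {u k : Aˣ} (hu : (u : A) * u + u + 1 = 0)
    (hv : ((k * u : Aˣ) : A) * (k * u : Aˣ) + (k * u : Aˣ) + 1 = 0) (n : ℕ) (hn : n.Coprime 6)
    (hkn : k ^ n = 1)
    (hz : ∀ z, z = (u * k * u⁻¹) * k * (u * k * u⁻¹)⁻¹ * k⁻¹ → Commute z k ∧ Commute z (u * k * u⁻¹) ∧ z ^ n = 1) :
    k = 1 := by
  set b := u * k * u⁻¹ with hbdef
  have hbu : b * u = u * k := by rw [hbdef]; group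
  have u3 : ∀ w : Aˣ, (w : A) * w + w + 1 = 0 → w ^ 3 = 1 := fun w hw => by
    refine Units.ext ?_
    push_cast
    refine eq_of_add h2 ?_
    have := add_self_eq h2 (w : A)
    have hw2 := add_self_eq h2 ((w : A) * w)
    calc (w : A) ^ 3 + 1 = (w : A) ^ 3 + 1 + (((w : A) * w + w * w) + ((w : A) + w)) := by
          rw [this, hw2, add_zero, add_zero]
      _ = ((w : A) + 1) * ((w : A) * w + w + 1) := by noncomm_ring
      _ = 0 := by rw [hw, mul_zero]
  obtain ⟨hzk, hzb, hzn⟩ := hz _ rfl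
  have hz' : b * k = b * k * b⁻¹ * k⁻¹ * (k * b) := by group
  have hM := root_comm h2 hu hv hbu hz' hzk hzb
  have h41 : Nat.Coprime n 4 := (hn.coprime_dvd_right (show 2 ∣ 6 by norm_num)).pow_right 2
  have hz1 : b * k * b⁻¹ * k⁻¹ = 1 := by
    have := (pow_gcd_eq_one (a := b * k * b⁻¹ * k⁻¹)).2 ⟨hzn, hM.2⟩
    rwa [h41, pow_one] at this
  have hkb : Commute k b := by
    have : b * k = k * b := by rw [hz', hz1, one_mul]
    exact this.symm
  set c := u * b * u⁻¹ with hcdef
  have hbc : Commute b c := by rw [hbdef, hcdef, hbdef]; exact hkb.map (MulAut.conj u).toMonoidHom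
  have hp : k * b * c = 1 := by
    have h3 := u3 _ hv
    have h3' := u3 _ hu
    rw [hcdef, hbdef]
    calc k * (u * k * u⁻¹) * (u * (u * k * u⁻¹) * u⁻¹) = (k * u) ^ 3 * (u ^ 3)⁻¹ := by
          simp only [pow_succ, pow_zero, one_mul]; group
      _ = 1 := by rw [h3, h3', inv_one, one_mul]
  have hc2 : c = (k * b)⁻¹ := (eq_inv_of_mul_eq_one_right hp)
  have hkc : Commute k c := by rw [hc2]; exact ((Commute.refl k).mul_right hkb).inv_right
  have hu' : u * c * u⁻¹ = k := by
    rw [hcdef, hbdef]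
    have h3' := u3 _ hu
    calc u * (u * (u * k * u⁻¹) * u⁻¹) * u⁻¹ = u ^ 3 * k * (u ^ 3)⁻¹ := by
          simp only [pow_succ, pow_zero, one_mul]; group
      _ = k := by rw [h3', one_mul, inv_one, mul_one]
  have R : ∀ j l m : Aˣ, u * j * u⁻¹ = l → Commute j l →
      ((l : A) * l + l + j * l + j) * u = 0 → ((l : A) + 1) * (l + j) = 0 := fun j l m _ hjl h => by
    have h' := (Units.mul_left_eq_zero u).1 h
    calc ((l : A) + 1) * (l + j) = (l : A) * l + l + l * j + j := by noncomm_ring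
      _ = 0 := by rw [show (l : A) * j = j * l from (congrArg Units.val hjl.eq).symm, h']
  have e1 : ((b : A) + 1) * (b + k) = 0 := by
    refine R k b 1 rfl hkb ?_
    rw [hM.1, show ((b * k * b⁻¹ * k⁻¹ : Aˣ) : A) = 1 by rw [hz1]; rfl, h2, zero_mul]
  have cj : ∀ x y : Aˣ, ((x : A) + 1) * (x + y) = 0 →
      (((u * x * u⁻¹ : Aˣ) : A) + 1) * ((u * x * u⁻¹ : Aˣ) + (u * y * u⁻¹ : Aˣ)) = 0 := fun x y h => by
    calc (((u * x * u⁻¹ : Aˣ) : A) + 1) * ((u * x * u⁻¹ : Aˣ) + (u * y * u⁻¹ : Aˣ))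
        = (u : A) * ((x : A) + 1) * (↑u⁻¹ * u) * ((x + y) * ↑u⁻¹) := by
          push_cast
          have h1 : (1 : A) = u * ↑u⁻¹ := (Units.mul_inv u).symm
          conv_lhs => arg 1; arg 2; rw [h1]
          noncomm_ring
      _ = (u : A) * (((x : A) + 1) * (x + y)) * ↑u⁻¹ := by rw [Units.inv_mul]; noncomm_ring
      _ = 0 := by rw [h, mul_zero, zero_mul]
  have e3 : ((c : A) + 1) * (c + b) = 0 := cj b k e1
  have e4 : ((k : A) + 1) * (k + c) = 0 := by
    have := cj c b e3
    rwa [hu', ← hcdef] at this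
  -- pass to the commutative subring generated by the three elements
  let s : Set A := {(k : A), (b : A), (c : A)}
  have hs : ∀ x ∈ s, ∀ y ∈ s, x * y = y * x := by
    have a1 : (k : A) * b = b * k := congrArg Units.val hkb.eq
    have a2 : (k : A) * c = c * k := congrArg Units.val hkc.eq
    have a3 : (b : A) * c = c * b := congrArg Units.val hbc.eq
    rintro x (rfl | rfl | rfl) y (rfl | rfl | rfl)
    exacts [rfl, a1, a2, a1.symm, rfl, a3, a2.symm, a3.symm, rfl]
  letI : CommRing (Subring.closure s) := Subring.closureCommRingOfComm hs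
  have hk' : (k : A) ∈ Subring.closure s := Subring.subset_closure (Or.inl rfl)
  have hb2 : (b : A) ∈ Subring.closure s := Subring.subset_closure (Or.inr (Or.inl rfl))
  have hc' : (c : A) ∈ Subring.closure s := Subring.subset_closure (Or.inr (Or.inr rfl))
  have main := root_rel (R := Subring.closure s) (k := ⟨_, hk'⟩) (b := ⟨_, hb2⟩) (c := ⟨_, hc'⟩)
    (by rw [← one_add_one_eq_two]; exact Subtype.ext h2) (Subtype.ext e1) (Subtype.ext e3) (Subtype.ext e4)
    (Subtype.ext (congrArg Units.val hp))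
  have main' : ((b : A) + 1) ^ 2 * ((b : A) ^ 2 + b + 1) = 0 := congrArg Subtype.val main
  -- so `b ^ 3` is unipotent
  have hb3 : ((b : A) ^ 3 + 1) ^ 4 = 0 := by
    have hf : (b : A) ^ 3 + 1 = ((b : A) + 1) * ((b : A) ^ 2 + b + 1) := by
      calc (b : A) ^ 3 + 1 = (b : A) ^ 3 + 1 + (((b : A) ^ 2 + b ^ 2) + ((b : A) + b)) := by
            rw [add_self_eq h2, add_self_eq h2, add_zero, add_zero]
        _ = _ := by noncomm_ring
    rw [hf]
    calc (((b : A) + 1) * ((b : A) ^ 2 + b + 1)) ^ 4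
        = ((b : A) + 1) ^ 2 * ((b : A) ^ 2 + b + 1) * (((b : A) + 1) ^ 2 * ((b : A) ^ 2 + b + 1) ^ 3) := by
          noncomm_ring
      _ = 0 := by rw [main', zero_mul]
  have hb12 : b ^ 12 = 1 := by
    refine Units.ext ?_
    push_cast
    refine eq_of_add h2 ?_
    calc (b : A) ^ 12 + 1 = (b : A) ^ 12 + 1 + (((b : A) ^ 9 + b ^ 9) + ((b : A) ^ 9 + b ^ 9) +
          (((b : A) ^ 6 + b ^ 6) + ((b : A) ^ 6 + b ^ 6) + ((b : A) ^ 6 + b ^ 6)) +
          (((b : A) ^ 3 + b ^ 3) + ((b : A) ^ 3 + b ^ 3))) := by simp only [add_self_eq h2, add_zero]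
      _ = ((b : A) ^ 3 + 1) ^ 4 := by noncomm_ring
      _ = 0 := hb3
  have hbn : b ^ n = 1 := by rw [hbdef, conj_pow, hkn, mul_one, mul_inv_cancel]
  have h12 : Nat.Coprime n (2 * 6) :=
    Nat.Coprime.mul_right (hn.coprime_dvd_right (show 2 ∣ 6 by norm_num)) hn
  have hb1 : b = 1 := by
    have := (pow_gcd_eq_one (a := b)).2 ⟨hbn, hb12⟩
    rwa [h12, pow_one] at this
  rw [hbdef] at hb1
  exact conj_eq_one_iff.1 hb1

/-- A solvable group of units of order prime to six, normalised by `u`, is centralised by it. -/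
theorem commute_of_root : ∀ (R : Subgroup Aˣ), Finite R → Group.IsSolvable R → (Nat.card R).Coprime 6 →
    ∀ u : Aˣ, (u : A) * u + u + 1 = 0 → (∀ r ∈ R, u * r * u⁻¹ ∈ R) → ∀ r ∈ R, u * r = r * u := by
  suffices H : ∀ n, ∀ (R : Subgroup Aˣ), Finite R → Nat.card R = n → Group.IsSolvable R →
      (Nat.card R).Coprime 6 → ∀ u : Aˣ, (u : A) * u + u + 1 = 0 → (∀ r ∈ R, u * r * u⁻¹ ∈ R) →
      ∀ r ∈ R, u * r = r * u from fun R hf => H _ R hf rfl
  intro n
  induction n using Nat.strong_induction_on with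
  | _ n ih =>
  intro R hf hn hsol hcop u hu hinv r hr
  haveI := hf
  rcases eq_or_ne R ⊥ with rfl | hne
  · rw [Subgroup.mem_bot.1 hr, mul_one, one_mul]
  haveI : Nontrivial R := (Subgroup.nontrivial_iff_ne_bot R).2 hne
  haveI := hsol
  set D := (commutator R).map R.subtype with hD
  have hDR : D ≤ R := Subgroup.map_subtype_le _
  have hlt : D < R := by
    refine lt_of_le_of_ne hDR fun e => ?_
    refine (Group.IsSolvable.commutator_lt_top_of_nontrivial R).ne ?_
    refine Subgroup.map_injective R.subtype_injective ?_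
    rw [← hD, e, ← MonoidHom.range_eq_map, Subgroup.range_subtype]
  have hcard : Nat.card D < n := hn ▸ lt_of_le_of_ne (Subgroup.card_le_of_le hDR)
    fun e => hlt.ne (Subgroup.eq_of_le_of_card_ge hDR e.ge)
  haveI : Finite D := Finite.of_injective _ (Subgroup.inclusion_injective hDR)
  have hDsol : Group.IsSolvable D :=
    solvable_of_solvable_injective (Subgroup.inclusion_injective hDR)
  have hDinv : ∀ x ∈ D, u * x * u⁻¹ ∈ D := by
    intro x hx
    have hle : D ≤ D.comap (MulAut.conj u).toMonoidHom := by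
      rw [hD, Subgroup.map_subtype_commutator, Subgroup.commutator_le]
      intro a ha b hb
      rw [Subgroup.mem_comap, map_commutatorElement]
      exact Subgroup.commutator_mem_commutator (hinv a ha) (hinv b hb)
    exact hle hx
  have hDu := ih _ hcard D inferInstance rfl hDsol
    (hcop.coprime_dvd_left (Subgroup.card_dvd_of_le hDR)) u hu hDinv
  set k := r⁻¹ * (u * r * u⁻¹) with hk
  have hkR : k ∈ R := R.mul_mem (R.inv_mem hr) (hinv r hr)
  -- elements of the derived subgroup commute with every such `k`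
  have key : ∀ s ∈ R, ∀ x ∈ D, Commute x (s⁻¹ * (u * s * u⁻¹)) := by
    intro s hs x hx
    have hn' : s * x * s⁻¹ ∈ D := by
      obtain ⟨y, hy, rfl⟩ := hx
      exact ⟨⟨s, hs⟩ * y * ⟨s, hs⟩⁻¹, Subgroup.Normal.conj_mem inferInstance y hy _, rfl⟩
    have h1 := hDu _ hn'
    have h2' := hDu _ hx
    show x * _ = _ * x
    calc x * (s⁻¹ * (u * s * u⁻¹)) = s⁻¹ * (s * x * s⁻¹ * u) * s * u⁻¹ := by group
      _ = s⁻¹ * (u * (s * x * s⁻¹)) * s * u⁻¹ := by rw [h1]
      _ = s⁻¹ * u * s * (x * u⁻¹) := by group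
      _ = s⁻¹ * u * s * (u⁻¹ * (u * x) * u⁻¹) := by group
      _ = s⁻¹ * u * s * (u⁻¹ * (x * u) * u⁻¹) := by rw [h2']
      _ = s⁻¹ * (u * s * u⁻¹) * x := by group
  have hkn : k ^ Nat.card R = 1 := congrArg Subtype.val (pow_card_eq_one' (x := (⟨k, hkR⟩ : R)))
  have hk1 : k = 1 := by
    have hv : ((k * u : Aˣ) : A) * (k * u : Aˣ) + (k * u : Aˣ) + 1 = 0 := by
      rw [show k * u = r⁻¹ * u * r by rw [hk]; group]
      push_cast
      calc (↑r⁻¹ : A) * u * r * (↑r⁻¹ * u * r) + ↑r⁻¹ * u * r + 1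
          = (↑r⁻¹ : A) * u * (r * ↑r⁻¹) * u * r + ↑r⁻¹ * u * r + ↑r⁻¹ * r := by
            rw [Units.inv_mul]; noncomm_ring
        _ = (↑r⁻¹ : A) * ((u : A) * u + u + 1) * r := by rw [Units.mul_inv]; noncomm_ring
        _ = 0 := by rw [hu, mul_zero, zero_mul]
    refine root_trivial h2 hu hv (Nat.card R) hcop hkn fun z hz => ?_
    have hzD : z ∈ D := by
      refine ⟨⁅(⟨_, hinv k hkR⟩ : R), ⟨k, hkR⟩⁆, Subgroup.commutator_mem_commutator (Subgroup.mem_top _)
        (Subgroup.mem_top _), ?_⟩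
      rw [hz]; rfl
    refine ⟨key r hr z hzD, ?_, congrArg Subtype.val (pow_card_eq_one' (x := (⟨z, hDR hzD⟩ : R)))⟩
    have := key _ (hinv r hr) z hzD
    rwa [show (u * r * u⁻¹)⁻¹ * (u * (u * r * u⁻¹) * u⁻¹) = u * k * u⁻¹ by rw [hk]; group] at this
  rw [hk, inv_mul_eq_one] at hk1
  calc u * r = u * r * u⁻¹ * u := by group
    _ = r * u := by rw [← hk1]

end Main

end CfsgLib.FpfSThree
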