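import Cfsg.Agent.Lib.FpfSThree.Solvable
import Cfsg.Agent.Lib.NoFF.Functors
import Cfsg.Agent.Lib.Goldschmidt.Main
import Cfsg.Agent.Lib.Fusion.ZStarFusion
import Cfsg.Agent.Lib.Signalizer.Corollaries
import Cfsg.Agent.S0205

/-!
No simple group admits a fixed-point-free symmetric group of degree three of order prime to three.

The normalizer of an invariant Sylow `2`-subgroup controls fusion, so `Ω₁(Z(S))` is strongly closed; the cores of
the centralizers of its involutions form a balanced functor, and two classes of involutions exclude a proper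
completion.
-/

set_option autoImplicit false
set_option linter.style.haveILetI false
set_option linter.unusedSectionVars false

namespace CfsgLib.FpfSThree

open Subgroup CfsgLib Cfsg
open CfsgLib.Fusion (conjSub conjSub_conjSub conjSub_one conjSub_mono card_conjSub conj_mem_conjSub)
open CfsgLib.Techniques.Functor
open scoped commutatorElement

universe u

variable {G : Type u} [Group G] [Finite G] {σ τ : MulAut G}

/-- The minimal situation. -/
structure Min (σ τ : MulAut G) : Prop where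
  hyp : Hyp σ τ
  nsol : ¬ Group.IsSolvable G
  simple : ∀ N : Subgroup G, N.Normal → N = ⊥ ∨ N = ⊤
  ind : ∀ H : Subgroup G, Inv σ τ H → H ≠ ⊤ → Group.IsSolvable ↥H

namespace Min

variable (d : Min σ τ)
include d

theorem even : Even (Nat.card G) := by
  by_contra h
  exact d.nsol (Cfsg.Agent.S0205.result (Nat.not_even_iff_odd.1 h))

theorem sylow_ne_bot (S : Sylow 2 G) : (S : Subgroup G) ≠ ⊥ := by
  haveI : Fact (Nat.Prime 2) := ⟨Nat.prime_two⟩
  intro e
  have := S.dvd_card_of_dvd_card (even_iff_two_dvd.1 d.even)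
  rw [e, Subgroup.card_bot] at this
  norm_num at this

theorem normalizer_ne_top {W : Subgroup G} (hW : IsPGroup 2 ↥W) (h1 : W ≠ ⊥) :
    normalizer (W : Set G) ≠ ⊤ := by
  haveI : Fact (Nat.Prime 2) := ⟨Nat.prime_two⟩
  intro e
  rcases d.simple W (normalizer_eq_top_iff.1 e) with h | h
  · exact h1 h
  · subst h
    refine d.nsol ?_
    haveI := hW.isNilpotent
    exact Group.isSolvable_of_surjective (f := (⊤ : Subgroup G).subtype) fun x => ⟨⟨x, trivial⟩, rfl⟩

theorem free : ¬ Involves (Equiv.Perm (Fin 4)) G := by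
  rintro ⟨K, R, hR, ⟨e⟩⟩
  have h1 : Nat.card (Equiv.Perm (Fin 4)) ∣ Nat.card G := by
    rw [← Nat.card_congr e.toEquiv]
    exact (Subgroup.card_quotient_dvd_card _).trans (Subgroup.card_subgroup_dvd_card K)
  refine d.hyp.three (Dvd.dvd.trans ?_ h1)
  rw [Nat.card_eq_fintype_card, Fintype.card_perm, Fintype.card_fin]
  decide

theorem inv_induced {S : Sylow 2 G} (hS : Inv σ τ (S : Subgroup G)) {W : ∀ (Q : Type u) [Group Q], Subgroup Q}
    (hW : IsCharPFunctor.{u} 2 W) : Inv σ τ (inducedFunctor W (S : Subgroup G)) := by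
  have key : ∀ φ : MulAut G, (∀ x ∈ (S : Subgroup G), φ x ∈ (S : Subgroup G)) →
      ∀ x ∈ inducedFunctor W (S : Subgroup G), φ x ∈ inducedFunctor W (S : Subgroup G) := fun φ hφ x hx => by
    have h1 := map_induced hW (φ : MulAut G).toMonoidHom S.2 fun y _ hy =>
      φ.injective (hy.trans (map_one φ).symm)
    have h2 : (S : Subgroup G).map (φ : MulAut G).toMonoidHom = (S : Subgroup G) :=
      Subgroup.eq_of_le_of_card_ge (by rintro _ ⟨y, hy, rfl⟩; exact hφ y hy)
        (Subgroup.card_map_of_injective φ.injective).ge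
    rw [h2] at h1
    exact h1 ▸ mem_map_of_mem _ hx
  exact ⟨key σ hS.smem, key τ hS.tmem⟩

/-- Inside a proper invariant subgroup containing `S` conjugations between subgroups of `S` come from `N(S)`. -/
theorem step {S : Sylow 2 G} {M : Subgroup G} (hM : Inv σ τ M) (hMt : M ≠ ⊤)
    (hSM : (S : Subgroup G) ≤ M) {A : Subgroup G} (hA : A ≤ (S : Subgroup G)) {m : G} (hm : m ∈ M)
    (hmA : conjSub m A ≤ (S : Subgroup G)) :
    ∃ n ∈ normalizer ((S : Subgroup G) : Set G), Agree A n m := by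
  haveI : Fact (Nat.Prime 2) := ⟨Nat.prime_two⟩
  haveI := d.ind M hM hMt
  obtain ⟨o, ho, n, hn, e⟩ := (d.hyp.sub hM).exists_frattini (S.subtype hSM) ⟨m, hm⟩
  have hn' : ∀ x, x ∈ (S : Subgroup G) → (n : G) * x * (n : G)⁻¹ ∈ (S : Subgroup G) := fun x hx =>
    ((mem_normalizer_iff.1 hn) ⟨x, hSM hx⟩).1 hx
  refine ⟨n, ?_, fun a ha => ?_⟩
  · rw [mem_normalizer_iff]
    exact fun x => ⟨hn' x, fun hx => by
      have hxM : x ∈ M := by
        have := M.mul_mem (M.mul_mem (M.inv_mem n.2) (hSM hx)) n.2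
        simpa [mul_assoc] using this
      exact ((mem_normalizer_iff.1 hn) ⟨x, hxM⟩).2 hx⟩
  · set b : ↥M := n * ⟨a, hSM (hA ha)⟩ * n⁻¹ with hb
    have hbS : (b : G) ∈ (S : Subgroup G) := hn' a (hA ha)
    have hcS : (o : G) * b * (o : G)⁻¹ ∈ (S : Subgroup G) := by
      have h1 := hmA (conj_mem_conjSub (g := m) ha)
      have e1 : m = (o : G) * n := congrArg Subtype.val e
      have e2 : m * a * m⁻¹ = (o : G) * b * (o : G)⁻¹ := by
        rw [e1, hb]
        simp only [Subgroup.coe_mul, Subgroup.coe_inv]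
        group
      rwa [e2] at h1
    haveI : (oddCore ↥M).Normal := by
      haveI := Cores.pPrimeCore_characteristic (G := ↥M) 2; infer_instance
    have ho1 : o * b * o⁻¹ * b⁻¹ ∈ oddCore ↥M := by
      rw [show o * b * o⁻¹ * b⁻¹ = o * (b * o⁻¹ * b⁻¹) by group]
      exact mul_mem ho (Subgroup.Normal.conj_mem inferInstance _ (inv_mem ho) b)
    have h0 : o * b * o⁻¹ * b⁻¹ = 1 :=
      Invol.eq_one_of_odd_of_mem (S.subtype hSM).2
        (show ((o * b * o⁻¹ * b⁻¹ : ↥M) : G) ∈ (S : Subgroup G) by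
          simpa using mul_mem hcS (inv_mem hbS))
        (Cores.odd_card_oddCore.of_dvd_nat (Subgroup.orderOf_dvd_natCard _ ho1))
    have h0' : (o : G) * b * (o : G)⁻¹ = b := by
      have := congrArg Subtype.val (mul_inv_eq_one.1 h0)
      simpa using this
    have e1 : m = (o : G) * n := congrArg Subtype.val e
    calc (n : G) * a * (n : G)⁻¹ = b := by rw [hb]; simp
      _ = (o : G) * b * (o : G)⁻¹ := h0'.symm
      _ = m * a * m⁻¹ := by
        rw [e1, hb]; simp only [Subgroup.coe_mul, Subgroup.coe_inv]; group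

/-- The normalizer of an invariant Sylow `2`-subgroup controls strong fusion. -/
theorem fus {S : Sylow 2 G} (hS : Inv σ τ (S : Subgroup G)) {A : Subgroup G} (hA : A ≤ (S : Subgroup G))
    {g : G} (hg : conjSub g A ≤ (S : Subgroup G)) :
    ∃ n ∈ normalizer ((S : Subgroup G) : Set G), Agree A n g := by
  haveI : Fact (Nat.Prime 2) := ⟨Nat.prime_two⟩
  have h0 := (ctrlAll_iff NoFF.isCharPFunctor_pairZJ).2
    (NoFF.controls_pairZJ d.free (⊤ : Subgroup G) (⊥ : Subgroup G))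
  have e : (↥(⊤ : Subgroup G) ⧸ (⊥ : Subgroup G).subgroupOf ⊤) ≃* G :=
    ((QuotientGroup.quotientMulEquivOfEq (Subgroup.bot_subgroupOf (H := (⊤ : Subgroup G)))).trans
      QuotientGroup.quotientBot).trans Subgroup.topEquiv
  obtain ⟨c, hc, hag⟩ := ctrlAll_congr e NoFF.isCharPFunctor_pairZJ h0 S A g trivial hA hg
  suffices h : ∃ n ∈ normalizer ((S : Subgroup G) : Set G), Agree A n c by
    obtain ⟨n, hn, h1⟩ := h
    exact ⟨n, hn, h1.trans hag⟩
  clear hag hg
  induction hc with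
  | refl => exact ⟨1, one_mem _, Agree.refl A 1⟩
  | @step c m H hr hH hm hle ih =>
    obtain ⟨n, hn, h1⟩ := ih
    obtain ⟨W, hW, rfl⟩ := hH
    have hWc := NoFF.isCharPFunctor_pairZJ W hW
    obtain ⟨n', hn', h2⟩ := d.step (S := S) (M := normalizer (inducedFunctor W (S : Subgroup G) : Set G))
      (Hyp.inv_normalizer (d.inv_induced hS hWc))
      (d.normalizer_ne_top (S.2.to_le (induced_le _)) (induced_ne_bot hWc S.2 (d.sylow_ne_bot S)))
      (le_normalizer.trans (normalizer_induced_ge hWc S.2))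
      (hr.conjSub_le hA) hm (by rw [conjSub_conjSub]; exact hle)
    exact ⟨n' * n, mul_mem hn' hn, h1.mul h2⟩

/-- Conjugations between elements of the centre are induced by fixed points of `σ`. -/
theorem agree_fix {S : Sylow 2 G} (hS : Inv σ τ (S : Subgroup G)) {A : Subgroup G} (hA : A ≤ (S : Subgroup G))
    (hAc : A ≤ centralizer ((S : Subgroup G) : Set G)) {g : G} (hg : conjSub g A ≤ (S : Subgroup G)) :
    ∃ c ∈ fix σ ⊓ normalizer ((S : Subgroup G) : Set G), Agree A c g := by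
  haveI : Fact (Nat.Prime 2) := ⟨Nat.prime_two⟩
  obtain ⟨n, hn, h1⟩ := d.fus hS hA hg
  set N := normalizer ((S : Subgroup G) : Set G) with hN
  have hNi : Inv σ τ N := Hyp.inv_normalizer hS
  haveI := d.ind N hNi (d.normalizer_ne_top S.2 (d.sylow_ne_bot S))
  set SN := S.subtype (le_normalizer : (S : Subgroup G) ≤ N) with hSN
  haveI hSNn : (SN : Subgroup ↥N).Normal := by
    rw [hSN, Sylow.coe_subtype]; exact normal_in_normalizer
  obtain ⟨p, hp, c, hc, e⟩ := (d.hyp.sub hNi).exists_decomp (⟨n, hn⟩ : ↥N)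
  refine ⟨c, ⟨congrArg Subtype.val (mem_fix.1 hc), c.2⟩, fun a ha => (Eq.trans ?_ (h1 a ha))⟩
  -- `p` centralises the centre of `S`
  have hp' : ∀ z ∈ (S : Subgroup G), z ∈ centralizer ((S : Subgroup G) : Set G) → (p : G) * z * (p : G)⁻¹ = z := by
    intro z hz hzc
    haveI : (oddCore ↥N).Normal := by
      haveI := Cores.pPrimeCore_characteristic (G := ↥N) 2; infer_instance
    have hπ := QuotientGroup.mk'_surjective (oddCore ↥N)
    obtain ⟨s, hs, e2⟩ : QuotientGroup.mk' (oddCore ↥N) p ∈ (SN : Subgroup ↥N).map (QuotientGroup.mk' (oddCore ↥N)) := by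
      rw [← Sylow.coe_mapSurjective hπ]; exact Cores.pCore_le_sylow _ hp
    have h2 : s⁻¹ * p ∈ oddCore ↥N := QuotientGroup.eq.1 e2
    set o := s⁻¹ * p with ho
    set z' : ↥N := ⟨z, le_normalizer hz⟩
    have h3 : o * z' * o⁻¹ * z'⁻¹ = 1 := by
      refine Invol.eq_one_of_odd_of_mem SN.2
        (mul_mem (hSNn.conj_mem z' hz o) (inv_mem hz)) ?_
      refine Cores.odd_card_oddCore.of_dvd_nat (Subgroup.orderOf_dvd_natCard _ ?_)
      rw [show o * z' * o⁻¹ * z'⁻¹ = o * (z' * o⁻¹ * z'⁻¹) by group]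
      exact mul_mem h2 (Subgroup.Normal.conj_mem inferInstance _ (inv_mem h2) _)
    have h4 : (o : G) * z * (o : G)⁻¹ = z := by
      have := congrArg Subtype.val (mul_inv_eq_one.1 h3)
      simpa [z'] using this
    have e3 : (p : G) = (s : G) * o := by rw [ho]; simp
    have hsS : (s : G) ∈ (S : Subgroup G) := hs
    calc (p : G) * z * (p : G)⁻¹ = (s : G) * ((o : G) * z * (o : G)⁻¹) * (s : G)⁻¹ := by rw [e3]; group
      _ = z := by rw [h4, mem_centralizer_iff.1 hzc s hsS, mul_inv_cancel_right]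
  have hcS : (c : G) * a * (c : G)⁻¹ ∈ (S : Subgroup G) := ((mem_normalizer_iff.1 c.2) a).1 (hA ha)
  have hcC : (c : G) * a * (c : G)⁻¹ ∈ centralizer ((S : Subgroup G) : Set G) := mem_centralizer_iff.2 fun y hy => by
    have hy' : (c : G)⁻¹ * y * c ∈ (S : Subgroup G) := ((mem_normalizer_iff.1 c.2) _).2 (by
      simpa [mul_assoc] using (SetLike.mem_coe.1 hy))
    have := mem_centralizer_iff.1 (hAc ha) _ hy'
    calc y * ((c : G) * a * (c : G)⁻¹) = (c : G) * (((c : G)⁻¹ * y * c) * a) * (c : G)⁻¹ := by group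
      _ = (c : G) * (a * ((c : G)⁻¹ * y * c)) * (c : G)⁻¹ := by rw [this]
      _ = (c : G) * a * (c : G)⁻¹ * y := by group
  have e4 : n = (p : G) * c := congrArg Subtype.val e
  rw [e4, show (p : G) * c * a * ((p : G) * c)⁻¹ = (p : G) * ((c : G) * a * (c : G)⁻¹) * (p : G)⁻¹ by group,
    hp' _ hcS hcC]

end Min

/-- The involutions of the centre of `S`, with the identity. -/
def zOne (S : Subgroup G) : Subgroup G where
  carrier := {x | x ∈ S ∧ x ∈ centralizer (S : Set G) ∧ x ^ 2 = 1}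
  one_mem' := ⟨one_mem _, one_mem _, one_pow _⟩
  mul_mem' := fun {a b} ha hb => ⟨mul_mem ha.1 hb.1, mul_mem ha.2.1 hb.2.1, by
    rw [(show Commute a b from mem_centralizer_iff.1 hb.2.1 a ha.1).mul_pow, ha.2.2, hb.2.2, one_mul]⟩
  inv_mem' := fun {a} ha => ⟨inv_mem ha.1, inv_mem ha.2.1, by rw [inv_pow, ha.2.2, inv_one]⟩

theorem mem_zOne {S : Subgroup G} {x : G} :
    x ∈ zOne S ↔ x ∈ S ∧ x ∈ centralizer (S : Set G) ∧ x ^ 2 = 1 := Iff.rfl

/-- The odd core of the centralizer of an element. -/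
noncomputable def cCore (a : G) : Subgroup G :=
  (oddCore ↥(centralizer ({a} : Set G))).map (centralizer ({a} : Set G)).subtype

theorem cCore_le (a : G) : cCore a ≤ centralizer ({a} : Set G) := map_subtype_le _

theorem odd_cCore (a : G) : Odd (Nat.card ↥(cCore a)) := by
  rw [cCore, card_map_of_injective (centralizer ({a} : Set G)).subtype_injective]
  exact Cores.odd_card_oddCore

theorem cCore_conj_mem {a h x : G} (hh : h ∈ centralizer ({a} : Set G)) (hx : x ∈ cCore a) :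
    h * x * h⁻¹ ∈ cCore a := by
  haveI := Cores.pPrimeCore_characteristic (G := ↥(centralizer ({a} : Set G))) 2
  obtain ⟨y, hy, rfl⟩ := hx
  exact ⟨⟨h, hh⟩ * y * ⟨h, hh⟩⁻¹, (inferInstance : (oddCore _).Normal).conj_mem y hy _, rfl⟩

theorem le_cCore {a : G} {N : Subgroup G} (hle : N ≤ centralizer ({a} : Set G))
    (hn : ∀ h ∈ centralizer ({a} : Set G), ∀ x ∈ N, h * x * h⁻¹ ∈ N) (hodd : Odd (Nat.card N)) : N ≤ cCore a := by
  haveI : (N.subgroupOf (centralizer ({a} : Set G))).Normal := ⟨fun x hx h => hn h h.2 x hx⟩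
  have h1 : N.subgroupOf (centralizer ({a} : Set G)) ≤ oddCore _ := Cores.le_oddCore_of_odd (by
    rwa [Nat.card_congr (subgroupOfEquivOfLe hle).toEquiv])
  exact fun x hx => ⟨⟨x, hle hx⟩, h1 hx, rfl⟩

theorem conj_cCore_mem {g a x : G} (hx : x ∈ cCore a) : g * x * g⁻¹ ∈ cCore (g * a * g⁻¹) := by
  refine le_cCore (N := conjSub g (cCore a)) ?_ ?_ ?_ (conj_mem_conjSub hx)
  · rintro _ ⟨y, hy, rfl⟩
    refine mem_centralizer_singleton_iff.2 ?_
    have := mem_centralizer_singleton_iff.1 (cCore_le a hy)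
    show g * y * g⁻¹ * (g * a * g⁻¹) = g * a * g⁻¹ * (g * y * g⁻¹)
    calc g * y * g⁻¹ * (g * a * g⁻¹) = g * (y * a) * g⁻¹ := by group
      _ = g * (a * y) * g⁻¹ := by rw [this]
      _ = g * a * g⁻¹ * (g * y * g⁻¹) := by group
  · rintro h hh _ ⟨y, hy, rfl⟩
    have hh' : g⁻¹ * h * g ∈ centralizer ({a} : Set G) := mem_centralizer_singleton_iff.2 (by
      have := mem_centralizer_singleton_iff.1 hh
      calc g⁻¹ * h * g * a = g⁻¹ * (h * (g * a * g⁻¹)) * g := by group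
        _ = g⁻¹ * (g * a * g⁻¹ * h) * g := by rw [this]
        _ = a * (g⁻¹ * h * g) := by group)
    refine ⟨_, cCore_conj_mem hh' hy, ?_⟩
    show g * (g⁻¹ * h * g * y * (g⁻¹ * h * g)⁻¹) * g⁻¹ = h * (g * y * g⁻¹) * h⁻¹
    group
  · rw [card_conjSub]; exact odd_cCore a

theorem odd_sup {A B : Subgroup G} (h : A ≤ normalizer (B : Set G)) (hA : Odd (Nat.card A))
    (hB : Odd (Nat.card B)) : Odd (Nat.card ↥(A ⊔ B)) := by
  set L := A ⊔ B
  have hAL : A ≤ L := le_sup_left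
  have hBL : B ≤ L := le_sup_right
  haveI : (B.subgroupOf L).Normal := normal_subgroupOf_of_le_normalizer (sup_le h le_normalizer)
  have h5 : (B.subgroupOf L).relIndex (A.subgroupOf L) = (B.subgroupOf L).index := by
    rw [← Subgroup.relIndex_sup_right, ← subgroupOf_sup hAL hBL, subgroupOf_self, Subgroup.relIndex_top_right]
  refine Odd.of_dvd_nat (hB.mul hA) ?_
  rw [← Subgroup.card_mul_index (B.subgroupOf L), Nat.card_congr (subgroupOfEquivOfLe hBL).toEquiv]
  refine Nat.mul_dvd_mul_left _ ?_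
  rw [← h5, ← Nat.card_congr (subgroupOfEquivOfLe hAL).toEquiv]
  exact Subgroup.relIndex_dvd_card _ _

theorem zOne_le (S : Subgroup G) : zOne S ≤ S := fun _ hx => hx.1

theorem zOne_cen (S : Subgroup G) : zOne S ≤ centralizer (S : Set G) := fun _ hx => hx.2.1

theorem zOne_comm {S : Subgroup G} {a b : G} (ha : a ∈ zOne S) (hb : b ∈ zOne S) : a * b = b * a :=
  mem_centralizer_iff.1 hb.2.1 a ha.1

theorem zOne_sq {S : Subgroup G} {a : G} (ha : a ∈ zOne S) : a * a = 1 := by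
  rw [← pow_two]; exact ha.2.2

theorem zOne_le_centralizer {S : Subgroup G} {b : G} (hb : b ∈ zOne S) :
    centralizer (zOne S : Set G) ≤ centralizer ({b} : Set G) := fun _ hx =>
  mem_centralizer_singleton_iff.2 (mem_centralizer_iff.1 hx b hb).symm

theorem le_centralizer_zOne {S : Subgroup G} {b : G} (hb : b ∈ zOne S) :
    S ≤ centralizer ({b} : Set G) := fun s hs =>
  mem_centralizer_singleton_iff.2 (mem_centralizer_iff.1 hb.2.1 s hs)

theorem zOne_conj {S : Subgroup G} {c z : G} (hc : c ∈ normalizer (S : Set G)) (hz : z ∈ zOne S) :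
    c * z * c⁻¹ ∈ zOne S := by
  refine ⟨((mem_normalizer_iff.1 hc) z).1 hz.1, mem_centralizer_iff.2 fun y hy => ?_, by
    rw [conj_pow, hz.2.2, mul_one, mul_inv_cancel]⟩
  have hy' : c⁻¹ * y * c ∈ S := ((mem_normalizer_iff.1 hc) _).2 (by
    simpa [mul_assoc] using (SetLike.mem_coe.1 hy))
  have := mem_centralizer_iff.1 hz.2.1 _ hy'
  calc y * (c * z * c⁻¹) = c * ((c⁻¹ * y * c) * z) * c⁻¹ := by group
    _ = c * (z * (c⁻¹ * y * c)) * c⁻¹ := by rw [this]
    _ = c * z * c⁻¹ * y := by group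

namespace Min

variable (d : Min σ τ) {S : Sylow 2 G} (hS : Inv σ τ (S : Subgroup G))
include d hS

theorem inv_zOne : Inv σ τ (zOne (S : Subgroup G)) := by
  have hC := Hyp.inv_centralizer hS
  exact ⟨fun x hx => ⟨hS.smem x hx.1, hC.smem x hx.2.1, by rw [← map_pow, hx.2.2, map_one]⟩,
    fun x hx => ⟨hS.tmem x hx.1, hC.tmem x hx.2.1, by rw [← map_pow, hx.2.2, map_one]⟩⟩

omit hS in
theorem exists_ne_one : ∃ z ∈ zOne (S : Subgroup G), z ≠ 1 := by
  haveI : Fact (Nat.Prime 2) := ⟨Nat.prime_two⟩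
  haveI : Nontrivial ↥(S : Subgroup G) := (nontrivial_iff_ne_bot _).2 (d.sylow_ne_bot S)
  haveI := S.2.center_nontrivial
  obtain ⟨y, hy⟩ := exists_prime_orderOf_dvd_card' (G := center ↥(S : Subgroup G)) 2 (by
    obtain ⟨k, hk0, hk⟩ := (IsPGroup.nontrivial_iff_card (S.2.to_subgroup (center ↥(S : Subgroup G)))).1 inferInstance
    rw [hk]; exact dvd_pow_self 2 hk0.ne')
  refine ⟨((y : ↥(S : Subgroup G)) : G), ⟨(y : ↥(S : Subgroup G)).2, mem_centralizer_iff.2 fun w hw =>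
    congrArg Subtype.val (mem_center_iff.1 y.2 ⟨w, hw⟩), ?_⟩, ?_⟩
  · have h1 := pow_orderOf_eq_one y
    rw [hy] at h1
    exact congrArg (fun w : center ↥(S : Subgroup G) => ((w : ↥(S : Subgroup G)) : G)) h1
  · intro e
    rw [show y = 1 from Subtype.ext (Subtype.ext e), orderOf_one] at hy
    norm_num at hy

/-- A subgroup invariant under the fixed points in `N(S)` is strongly closed. -/
theorem closed_of_inv {W : Subgroup G} (hW : W ≤ zOne (S : Subgroup G))
    (hinv : ∀ c ∈ fix σ ⊓ normalizer ((S : Subgroup G) : Set G), ∀ w ∈ W, c * w * c⁻¹ ∈ W) :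
    IsStronglyClosed W (S : Subgroup G) := by
  refine ⟨hW.trans (zOne_le _), fun x hx g hg => ?_⟩
  obtain ⟨c, hc, ha⟩ := d.agree_fix hS (A := zpowers x) (zpowers_le.2 (zOne_le _ (hW hx)))
    (zpowers_le.2 (zOne_cen _ (hW hx))) (g := g) (by
      rw [conjSub, MonoidHom.map_zpowers, zpowers_le]
      exact hg)
  rw [← ha x (mem_zpowers x)]
  exact hinv c hc x hx

theorem zOne_closed : IsStronglyClosed (zOne (S : Subgroup G)) (S : Subgroup G) :=
  d.closed_of_inv hS le_rfl fun _ hc _ hw => zOne_conj hc.2 hw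

omit hS in
theorem oddCore_eq_bot : oddCore G = ⊥ := by
  haveI := Cores.pPrimeCore_characteristic (G := G) 2
  rcases d.simple (oddCore G) inferInstance with h | h
  · exact h
  · exfalso
    have h3 := Cores.odd_card_oddCore (G := G)
    rw [h, Subgroup.card_top] at h3
    exact (Nat.not_even_iff_odd.2 h3) d.even

omit hS in
/-- There are no two closed subgroups with trivial intersection. -/
theorem not_pair {W₁ W₂ : Subgroup G} (h1 : W₁ ≤ zOne (S : Subgroup G)) (h2 : W₂ ≤ zOne (S : Subgroup G))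
    (hn1 : W₁ ≠ ⊥) (hn2 : W₂ ≠ ⊥) (hdis : W₁ ⊓ W₂ = ⊥)
    (hc1 : IsStronglyClosed W₁ (S : Subgroup G)) (hc2 : IsStronglyClosed W₂ (S : Subgroup G)) : False := by
  obtain ⟨x, hx1⟩ := Subgroup.ne_bot_iff_exists_ne_one.1 hn1
  obtain ⟨y, hy1⟩ := Subgroup.ne_bot_iff_exists_ne_one.1 hn2
  have hcm := Goldschmidt.commutes G S W₁ W₂ ⟨hc1, hc2, fun a ha b hb => zOne_comm (h1 ha) (h2 hb), hdis⟩
  have hN : normalClosure ({(y : G)} : Set G) ≤ centralizer ({(x : G)} : Set G) := by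
    rw [normalClosure, closure_le]
    intro w hw
    obtain ⟨a, ha, hcj⟩ := Group.mem_conjugatesOfSet_iff.1 hw
    rw [Set.mem_singleton_iff] at ha
    obtain ⟨g, rfl⟩ := isConj_iff.1 (ha ▸ hcj)
    have h3 := hcm x ⟨1, by simp⟩ (g * (y : G) * g⁻¹) ⟨g⁻¹, by simp [mul_assoc]⟩
    rw [d.oddCore_eq_bot, mem_bot, commutatorElement_eq_one_iff_mul_comm] at h3
    exact mem_centralizer_singleton_iff.2 h3.symm
  rcases d.simple (normalClosure ({(y : G)} : Set G)) inferInstance with h | h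
  · exact hy1 (Subtype.ext (mem_bot.1 (h ▸ subset_normalClosure rfl)))
  · rw [h, top_le_iff] at hN
    have hxc : (x : G) ∈ center G := mem_center_iff.2 fun g =>
      mem_centralizer_singleton_iff.1 (hN ▸ mem_top g)
    rcases d.simple (center G) inferInstance with h' | h'
    · exact hx1 (Subtype.ext (mem_bot.1 (h' ▸ hxc)))
    · exact d.nsol (Group.isSolvable_of_comm fun a b => mem_center_iff.1 (h' ▸ mem_top b) a)

/-- A fixed point in `N(S)` fixing an involution of `Z` centralises `Z`. -/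
theorem fix_trivial {c b : G} (hc : c ∈ fix σ ⊓ normalizer ((S : Subgroup G) : Set G))
    (hb : b ∈ zOne (S : Subgroup G)) (hb1 : b ≠ 1) (hcb : c * b * c⁻¹ = b) {z : G}
    (hz : z ∈ zOne (S : Subgroup G)) : c * z * c⁻¹ = z := by
  by_contra hzc
  set Z := zOne (S : Subgroup G) with hZ
  let f : ↥Z →* G := MonoidHom.mk' (fun x => (x : G) * (c * x * c⁻¹)) fun a a' => by
    have h1 : c * (a : G) * c⁻¹ * (a' : G) = (a' : G) * (c * (a : G) * c⁻¹) :=
      zOne_comm (zOne_conj hc.2 a.2) a'.2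
    calc (a : G) * a' * (c * (a * a') * c⁻¹) = (a : G) * (a' * (c * a * c⁻¹)) * (c * a' * c⁻¹) := by group
      _ = (a : G) * (c * a * c⁻¹ * a') * (c * a' * c⁻¹) := by rw [h1]
      _ = (a : G) * (c * a * c⁻¹) * ((a' : G) * (c * a' * c⁻¹)) := by group
  have hW2 : f.range ≤ Z := by
    rintro _ ⟨x, rfl⟩
    exact mul_mem x.2 (zOne_conj hc.2 x.2)
  have hcomm : ∀ c' ∈ fix σ, c' * c = c * c' := fun c' hc' => d.hyp.fix_comm hc' hc.1
  refine d.not_pair (W₁ := Z ⊓ centralizer ({c} : Set G)) (W₂ := f.range) inf_le_left hW2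
    (fun e => hb1 (mem_bot.1 (e ▸ ⟨hb, mem_centralizer_singleton_iff.2 ?_⟩)))
    (fun e => hzc ?_) ?_ (d.closed_of_inv hS inf_le_left ?_) (d.closed_of_inv hS hW2 ?_)
  · exact (mul_inv_eq_iff_eq_mul.1 hcb).symm
  · have h1 : z * (c * z * c⁻¹) = 1 := (show f ⟨z, hz⟩ = 1 from mem_bot.1 (e ▸ ⟨_, rfl⟩))
    exact mul_left_cancel (h1.trans (zOne_sq hz).symm)
  · refine eq_bot_iff.2 fun y hy => mem_bot.2 ?_
    obtain ⟨⟨hyZ, hyc⟩, ⟨x, hfx⟩⟩ := hy
    have hcy : c * y * c⁻¹ = y := by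
      rw [← mem_centralizer_singleton_iff.1 hyc, mul_inv_cancel_right]
    have hx : c * (x : G) * c⁻¹ = (x : G) * y := by
      have h2 : (x : G) * (c * x * c⁻¹) = y := hfx
      rw [← h2, ← mul_assoc, zOne_sq x.2, one_mul]
    have hpw : ∀ j : ℕ, c ^ j * (x : G) * (c ^ j)⁻¹ = (x : G) * y ^ j := by
      intro j
      induction j with
      | zero => simp
      | succ j ih =>
        have h3 : c * y ^ j * c⁻¹ = y ^ j := by rw [← conj_pow, hcy]
        calc c ^ (j + 1) * (x : G) * (c ^ (j + 1))⁻¹ = c * (c ^ j * (x : G) * (c ^ j)⁻¹) * c⁻¹ := by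
              rw [pow_succ']; group
          _ = (c * (x : G) * c⁻¹) * (c * y ^ j * c⁻¹) := by rw [ih]; group
          _ = (x : G) * y ^ (j + 1) := by rw [hx, h3, pow_succ', mul_assoc]
    obtain ⟨m, hm⟩ := d.hyp.fix_odd
    have hcn : c ^ Nat.card ↥(fix σ) = 1 :=
      congrArg Subtype.val (pow_card_eq_one' (x := (⟨c, hc.1⟩ : ↥(fix σ))))
    have h4 := hpw (Nat.card ↥(fix σ))
    rw [hcn, one_mul, inv_one, mul_one, eq_comm, mul_eq_left, hm, pow_succ, pow_mul, hyZ.2.2,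
      one_pow, one_mul] at h4
    exact h4
  · rintro c' hc' w ⟨hwZ, hwc⟩
    refine ⟨zOne_conj hc'.2 hwZ, mem_centralizer_singleton_iff.2 ?_⟩
    have h1 := hcomm c' hc'.1
    have h2 := mem_centralizer_singleton_iff.1 hwc
    have h3 : c'⁻¹ * c = c * c'⁻¹ := by
      calc c'⁻¹ * c = c'⁻¹ * (c * c') * c'⁻¹ := by group
        _ = c'⁻¹ * (c' * c) * c'⁻¹ := by rw [h1]
        _ = c * c'⁻¹ := by group
    calc c' * w * c'⁻¹ * c = c' * w * (c'⁻¹ * c) := by group
      _ = c' * (w * c) * c'⁻¹ := by rw [h3]; group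
      _ = c' * (c * w) * c'⁻¹ := by rw [h2]
      _ = (c' * c) * w * c'⁻¹ := by group
      _ = c * (c' * w * c'⁻¹) := by rw [h1]; group
  · rintro c' hc' _ ⟨x, rfl⟩
    refine ⟨⟨_, zOne_conj hc'.2 x.2⟩, ?_⟩
    show c' * (x : G) * c'⁻¹ * (c * (c' * (x : G) * c'⁻¹) * c⁻¹) = c' * ((x : G) * (c * x * c⁻¹)) * c'⁻¹
    have h1 := hcomm c' hc'.1
    calc c' * (x : G) * c'⁻¹ * (c * (c' * (x : G) * c'⁻¹) * c⁻¹)
        = c' * (x : G) * c'⁻¹ * ((c * c') * (x : G) * (c * c')⁻¹) := by group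
      _ = c' * (x : G) * c'⁻¹ * ((c' * c) * (x : G) * (c' * c)⁻¹) := by rw [h1]
      _ = c' * ((x : G) * (c * x * c⁻¹)) * c'⁻¹ := by group

omit hS in
theorem sigma_ne {z : G} (hz : z ∈ zOne (S : Subgroup G)) (hz1 : z ≠ 1) : σ z ≠ z := fun e =>
  hz1 (d.hyp.eq_one_of_two (n := 1) e (by rw [pow_one]; exact hz.2.2))

theorem card_modEq : Nat.card ↥(zOne (S : Subgroup G)) ≡ 1 [MOD 3] := by
  classical
  haveI : Fact (Nat.Prime 3) := ⟨Nat.prime_three⟩
  set Z := zOne (S : Subgroup G) with hZ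
  haveI := Fintype.ofFinite ↥Z
  let e : Equiv.Perm ↥Z := (d.hyp.rs (d.inv_zOne hS)).toEquiv
  have he : e ^ 3 = 1 := Equiv.ext fun x => Subtype.ext (d.hyp.sigma x)
  have := Equiv.Perm.card_compl_support_modEq (p := 3) (n := 1) (σ := e) (by rwa [pow_one])
  rw [Nat.card_eq_fintype_card]
  refine this.symm.trans ?_
  rw [show e.supportᶜ = {1} from Finset.ext fun x => by
    rw [Finset.mem_compl, Equiv.Perm.notMem_support, Finset.mem_singleton]
    constructor
    · intro hx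
      by_contra hx1
      exact d.sigma_ne x.2 (fun e1 => hx1 (Subtype.ext e1)) (congrArg Subtype.val hx)
    · rintro rfl; exact map_one (d.hyp.rs (d.inv_zOne hS)), Finset.card_singleton]

theorem card_zOne : 2 ^ 3 ≤ Nat.card ↥(zOne (S : Subgroup G)) := by
  haveI : Fact (Nat.Prime 2) := ⟨Nat.prime_two⟩
  set Z := zOne (S : Subgroup G) with hZ
  obtain ⟨k, hk⟩ := IsPGroup.iff_card.1 (S.2.to_le (zOne_le (S : Subgroup G)))
  rw [hk]
  by_contra hlt
  have hk2 : k ≤ 2 := by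
    by_contra h; exact hlt (Nat.pow_le_pow_right (by norm_num) (by omega))
  obtain ⟨z, hz, hz1⟩ := d.exists_ne_one (S := S)
  have hmod := d.card_modEq hS
  have h4 : Nat.card ↥Z = 4 := by
    rcases (show k = 0 ∨ k = 1 ∨ k = 2 by omega) with rfl | rfl | rfl
    · haveI : Subsingleton ↥Z := (Nat.card_eq_one_iff_unique.1 (by rw [hk, pow_zero])).1
      exact absurd (congrArg Subtype.val (Subsingleton.elim (⟨z, hz⟩ : ↥Z) 1)) hz1
    · rw [hk] at hmod; exact absurd hmod (by decide)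
    · rw [hk]; rfl
  have hsz := (d.inv_zOne hS).smem z hz
  have hssz := (d.inv_zOne hS).smem _ hsz
  have hσ1 : σ z ≠ 1 := fun e => hz1 (σ.injective (e.trans (map_one σ).symm))
  have hσσ1 : σ (σ z) ≠ 1 := fun e => hσ1 (σ.injective (e.trans (map_one σ).symm))
  have d1 : σ z ≠ z := d.sigma_ne hz hz1
  have d2 : σ (σ z) ≠ σ z := d.sigma_ne hsz hσ1
  have d3 : σ (σ z) ≠ z := fun e => d1 (by conv_rhs => rw [← d.hyp.sigma z, e])
  -- the fixed points in `N(S)` centralise `z`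
  have hall : ∀ c ∈ fix σ ⊓ normalizer ((S : Subgroup G) : Set G), c * z * c⁻¹ = z := by
    intro c hc
    have hd : ∀ x, c * σ x * c⁻¹ = σ (c * x * c⁻¹) := fun x => by
      rw [map_conj, show σ c = c from hc.1]
    set w := c * z * c⁻¹ with hw
    have hmem : w ∈ ({1, z, σ z, σ (σ z)} : Set G) := by
      have hsub : ({1, z, σ z, σ (σ z)} : Set G) ⊆ (Z : Set G) := by
        rintro x (rfl | rfl | rfl | rfl)
        exacts [one_mem _, hz, hsz, hssz]
      have hc4 : ({1, z, σ z, σ (σ z)} : Set G).ncard = 4 := by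
        rw [Set.ncard_insert_of_notMem (by simp [Ne.symm hz1, Ne.symm hσ1, Ne.symm hσσ1]),
          Set.ncard_insert_of_notMem (by simp [Ne.symm d1, Ne.symm d3]),
          Set.ncard_insert_of_notMem (by simp [Ne.symm d2]), Set.ncard_singleton]
      rw [Set.eq_of_subset_of_ncard_le hsub (by rw [hc4, ← Nat.card_coe_set_eq]; exact h4.le)]
      exact zOne_conj hc.2 hz
    -- `c ^ 3` fixes `z`
    have e3 : c ^ 3 * z * (c ^ 3)⁻¹ = z := by
      have hh : c ^ 3 * z * (c ^ 3)⁻¹ = c * (c * w * c⁻¹) * c⁻¹ := by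
        rw [hw]; simp only [pow_succ, pow_zero, one_mul]; group
      rw [hh]
      rcases hmem with h | h | h | (h : w = σ (σ z))
      · exact absurd (conj_eq_one_iff.1 h) hz1
      · rw [h, ← hw, h, ← hw, h]
      · rw [h, hd, ← hw, h, hd, hd, ← hw, h, d.hyp.sigma]
      · simp only [h, hd, ← hw, d.hyp.sigma]
    have hcop : Nat.Coprime 3 (Nat.card ↥(fix σ)) := Nat.prime_three.coprime_iff_not_dvd.2 fun hd =>
      d.hyp.three (hd.trans (Subgroup.card_subgroup_dvd_card _))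
    have hst : c ∈ centralizer ({z} : Set G) := by
      have h3 : c ^ 3 ∈ centralizer ({z} : Set G) :=
        mem_centralizer_singleton_iff.2 (mul_inv_eq_iff_eq_mul.1 e3)
      have hcn : c ^ Nat.card ↥(fix σ) = 1 :=
        congrArg Subtype.val (pow_card_eq_one' (x := (⟨c, hc.1⟩ : ↥(fix σ))))
      have := Int.gcd_eq_gcd_ab (3 : ℕ) (Nat.card ↥(fix σ) : ℕ)
      rw [Int.gcd_natCast_natCast, hcop, Nat.cast_one] at this
      rw [← zpow_one c, this, zpow_add, zpow_mul, zpow_mul, zpow_natCast, zpow_natCast, hcn, one_zpow,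
        mul_one]
      exact zpow_mem h3 _
    rw [hw, mem_centralizer_singleton_iff.1 hst, mul_inv_cancel_right]
  refine d.not_pair (W₁ := zpowers z) (W₂ := zpowers (σ z)) (zpowers_le.2 hz) (zpowers_le.2 hsz)
    (fun e => hz1 (zpowers_eq_bot.1 e)) (fun e => hσ1 (zpowers_eq_bot.1 e)) ?_
    (d.closed_of_inv hS (zpowers_le.2 hz) ?_) (d.closed_of_inv hS (zpowers_le.2 hsz) ?_)
  · have ho : ∀ x ∈ Z, ∀ y ∈ zpowers x, y = 1 ∨ y = x := fun x hx y hy => by
      obtain ⟨i, rfl⟩ := mem_zpowers_iff.1 hy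
      rcases Int.even_or_odd i with ⟨j, rfl⟩ | ⟨j, rfl⟩
      · left; rw [← two_mul, zpow_mul, zpow_ofNat, hx.2.2, one_zpow]
      · right; rw [zpow_add, zpow_mul, zpow_ofNat, hx.2.2, one_zpow, one_mul, zpow_one]
    refine eq_bot_iff.2 fun y hy => mem_bot.2 ?_
    rcases ho z hz y hy.1 with h | h
    · exact h
    rcases ho _ hsz y hy.2 with h' | h'
    · exact h'
    · exact absurd (h'.symm.trans h) d1
  all_goals
    intro c hc w hw
    obtain ⟨i, rfl⟩ := mem_zpowers_iff.1 hw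
    rw [← conj_zpow]
    refine zpow_mem ?_ i
  · rw [hall c hc]; exact mem_zpowers z
  · have : c * σ z * c⁻¹ = σ z := by
      conv_rhs => rw [← hall c hc, map_conj, show σ c = c from hc.1]
    rw [this]; exact mem_zpowers _

/-- The centralizer of an element of `Z` is its core times the centralizer of `Z`. -/
theorem centralizer_decomp {b : G} (hb : b ∈ zOne (S : Subgroup G)) (hb1 : b ≠ 1) {h : G}
    (hh : h ∈ centralizer ({b} : Set G)) :
    ∃ o ∈ cCore b, ∃ n ∈ centralizer (zOne (S : Subgroup G) : Set G), h = o * n := by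
  haveI : Fact (Nat.Prime 2) := ⟨Nat.prime_two⟩
  set Z := zOne (S : Subgroup G) with hZ
  set H := centralizer ({b} : Set G) with hH
  have hSH : (S : Subgroup G) ≤ H := le_centralizer_zOne hb
  set SH := S.subtype hSH with hSHd
  haveI : (oddCore ↥H).Normal := by
    haveI := Cores.pPrimeCore_characteristic (G := ↥H) 2; infer_instance
  have hiso : ∀ x : ↥H, (x : G) ∈ Z → ∀ g : ↥H, g * x * g⁻¹ ∈ (SH : Subgroup ↥H) → g * x * g⁻¹ = x := by
    intro x hx g hg
    have hgb : (g : G) * b * (g : G)⁻¹ = b := by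
      rw [mem_centralizer_singleton_iff.1 g.2, mul_inv_cancel_right]
    obtain ⟨c, hc, ha⟩ := d.agree_fix hS (A := zpowers b ⊔ zpowers (x : G))
      (sup_le (zpowers_le.2 (zOne_le _ hb)) (zpowers_le.2 (zOne_le _ hx)))
      (sup_le (zpowers_le.2 (zOne_cen _ hb)) (zpowers_le.2 (zOne_cen _ hx))) (g := (g : G)) (by
        rw [conjSub, Subgroup.map_sup, MonoidHom.map_zpowers, MonoidHom.map_zpowers]
        refine sup_le (zpowers_le.2 ?_) (zpowers_le.2 hg)
        show (g : G) * b * (g : G)⁻¹ ∈ (S : Subgroup G)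
        rw [hgb]; exact zOne_le _ hb)
    have h1 := ha b (mem_sup_left (mem_zpowers b))
    rw [hgb] at h1
    have h2 := ha x (mem_sup_right (mem_zpowers _))
    rw [d.fix_trivial hS hc hb hb1 h1 hx] at h2
    exact Subtype.ext h2.symm
  set π := QuotientGroup.mk' (oddCore ↥H) with hπ
  have hπs : Function.Surjective π := QuotientGroup.mk'_surjective _
  set ZH := Z.subgroupOf H with hZH
  have hZSH : ZH ≤ (SH : Subgroup ↥H) := fun x hx => zOne_le (S : Subgroup G) hx
  have hcen : ZH.map π ≤ center (↥H ⧸ oddCore ↥H) := by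
    refine Fusion.le_center_of_isolated_aux _ _ le_rfl (Cores.pPrimeCore_quotient_self 2)
      (SH.mapSurjective hπs) _ (by rw [Sylow.coe_mapSurjective]; exact map_mono hZSH) ?_
    rintro _ ⟨x, hx, rfl⟩ g hg
    obtain ⟨k, rfl⟩ := hπs g
    rw [Sylow.coe_mapSurjective, ← map_inv, ← map_mul, ← map_mul] at hg
    obtain ⟨s, hs, e⟩ := hg
    have hmem : k * x * k⁻¹ ∈ (SH : Subgroup ↥H) ⊔ oddCore ↥H := by
      rw [show k * x * k⁻¹ = s * (s⁻¹ * (k * x * k⁻¹)) by group]
      exact mul_mem (mem_sup_left hs) (mem_sup_right (QuotientGroup.eq.1 e))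
    obtain ⟨w, hw, hw'⟩ := Fusion.exists_oddCore_conj SH (R := zpowers (k * x * k⁻¹))
      (by
        obtain ⟨j, hj⟩ := SH.2 ⟨x, hZSH hx⟩
        refine IsPGroup.of_card_dvd_pow (n := j) ?_
        rw [Nat.card_zpowers]
        refine orderOf_dvd_of_pow_eq_one ?_
        rw [conj_pow, show x ^ 2 ^ j = 1 from congrArg Subtype.val hj, mul_one, mul_inv_cancel])
      (zpowers_le.2 hmem)
    have h1 := hw' _ (mem_zpowers _)
    have h2 := hiso x hx (w * k) (by simpa [mul_assoc] using h1)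
    have hw1 : π w = 1 := (QuotientGroup.eq_one_iff _).2 hw
    have h3 := congrArg π h2
    simp only [map_mul, map_inv, hw1, one_mul] at h3
    rw [← map_inv, ← map_mul, ← map_mul]
    simpa using h3
  set h' : ↥H := ⟨h, hh⟩ with hh'
  have hR : conjSub h' ZH ≤ (SH : Subgroup ↥H) ⊔ oddCore ↥H := by
    rintro _ ⟨x, hx, rfl⟩
    show h' * x * h'⁻¹ ∈ _
    have h1 : π (h' * x * h'⁻¹) = π x := by
      rw [map_mul, map_mul, mem_center_iff.1 (hcen (mem_map_of_mem π hx)) (π h'), map_inv, mul_inv_cancel_right]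
    rw [show h' * x * h'⁻¹ = x * (x⁻¹ * (h' * x * h'⁻¹)) by group]
    exact mul_mem (mem_sup_left (hZSH hx)) (mem_sup_right (QuotientGroup.eq.1 h1.symm))
  obtain ⟨w, hw, hw'⟩ := Fusion.exists_oddCore_conj SH
    ((SH.2.to_le hZSH).map (MulAut.conj h').toMonoidHom) hR
  refine ⟨((w⁻¹ : ↥H) : G), ⟨w⁻¹, inv_mem hw, rfl⟩, ((w * h' : ↥H) : G), ?_, by simp [h']⟩
  refine mem_centralizer_iff.2 fun z hz => ?_
  have hzH : z ∈ H := hSH (zOne_le _ hz)
  have h1 := hw' _ (conj_mem_conjSub (g := h') (show (⟨z, hzH⟩ : ↥H) ∈ ZH from hz))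
  have h2 := hiso ⟨z, hzH⟩ hz (w * h') (by simpa [mul_assoc] using h1)
  have h3 := congrArg Subtype.val (mul_inv_eq_iff_eq_mul.1 h2)
  simpa using h3.symm

theorem balanced {a b : G} (ha : a ∈ zOne (S : Subgroup G)) (hb : b ∈ zOne (S : Subgroup G)) (hb1 : b ≠ 1) :
    cCore a ⊓ centralizer ({b} : Set G) ≤ cCore b := by
  set CZ := centralizer (zOne (S : Subgroup G) : Set G) with hCZ
  set O := (oddCore ↥CZ).map CZ.subtype with hO
  set D := cCore a ⊓ centralizer ({b} : Set G) with hD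
  set E := (D ⊔ cCore b) ⊓ CZ with hE
  have hDn : ∀ n ∈ CZ, ∀ x ∈ D, n * x * n⁻¹ ∈ D := fun n hn x hx =>
    mem_inf.2 ⟨cCore_conj_mem (zOne_le_centralizer ha hn) (mem_inf.1 hx).1,
      Subgroup.mul_mem _ (Subgroup.mul_mem _ (zOne_le_centralizer hb hn) (mem_inf.1 hx).2)
        (Subgroup.inv_mem _ (zOne_le_centralizer hb hn))⟩
  have hbn : ∀ n ∈ CZ, ∀ x ∈ cCore b, n * x * n⁻¹ ∈ cCore b := fun n hn x hx =>
    cCore_conj_mem (zOne_le_centralizer hb hn) hx
  have hbN : centralizer ({b} : Set G) ≤ normalizer (cCore b : Set G) := fun x hx =>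
    Fusion.mem_normalizer_of_forall fun y hy => cCore_conj_mem hx hy
  have hDb : D ≤ normalizer (cCore b : Set G) := inf_le_right.trans hbN
  have hOcz : O ≤ CZ := map_subtype_le _
  have hOb : O ≤ normalizer (cCore b : Set G) := (hOcz.trans (zOne_le_centralizer hb)).trans hbN
  have hEodd : Odd (Nat.card E) := (odd_sup hDb ((odd_cCore a).of_dvd_nat (Subgroup.card_dvd_of_le inf_le_left))
    (odd_cCore b)).of_dvd_nat (Subgroup.card_dvd_of_le inf_le_left)
  have hEn : ∀ n ∈ CZ, ∀ x ∈ E, n * x * n⁻¹ ∈ E := by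
    intro n hn x hx
    have hle : D ⊔ cCore b ≤ (D ⊔ cCore b).comap (MulAut.conj n).toMonoidHom :=
      sup_le (fun y hy => mem_sup_left (hDn n hn y hy)) (fun y hy => mem_sup_right (hbn n hn y hy))
    exact mem_inf.2 ⟨hle (mem_inf.1 hx).1,
      Subgroup.mul_mem _ (Subgroup.mul_mem _ hn (mem_inf.1 hx).2) (Subgroup.inv_mem _ hn)⟩
  have hEO : E ≤ O := by
    haveI : (E.subgroupOf CZ).Normal := ⟨fun x hx n => hEn n n.2 x hx⟩
    have h1 : E.subgroupOf CZ ≤ oddCore _ := Cores.le_oddCore_of_odd (by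
      rwa [Nat.card_congr (subgroupOfEquivOfLe (inf_le_right : E ≤ CZ)).toEquiv])
    exact fun x hx => ⟨⟨x, (mem_inf.1 hx).2⟩, h1 hx, rfl⟩
  have hOn : ∀ n ∈ CZ, ∀ x ∈ O, n * x * n⁻¹ ∈ O := by
    haveI := Cores.pPrimeCore_characteristic (G := ↥CZ) 2
    rintro n hn _ ⟨x, hx, rfl⟩
    exact ⟨⟨n, hn⟩ * x * ⟨n, hn⟩⁻¹, (inferInstance : (oddCore _).Normal).conj_mem x hx _, rfl⟩
  set T := O ⊔ cCore b with hT
  have hTle : T ≤ centralizer ({b} : Set G) := sup_le (hOcz.trans (zOne_le_centralizer hb)) (cCore_le b)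
  have hTn : ∀ h ∈ centralizer ({b} : Set G), ∀ x ∈ T, h * x * h⁻¹ ∈ T := by
    intro h hh
    obtain ⟨o, ho, n, hn, rfl⟩ := d.centralizer_decomp hS hb hb1 hh
    have hn' : T ≤ T.comap (MulAut.conj n).toMonoidHom :=
      sup_le (fun x hx => mem_sup_left (hOn n hn x hx)) (fun x hx => mem_sup_right (hbn n hn x hx))
    intro x hx
    rw [show o * n * x * (o * n)⁻¹ = o * (n * x * n⁻¹) * o⁻¹ by group]
    exact mul_mem (mul_mem (mem_sup_right ho) (hn' hx)) (inv_mem (mem_sup_right ho))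
  have hTodd : Odd (Nat.card T) := odd_sup hOb (by
    rw [hO, card_map_of_injective CZ.subtype_injective]
    exact Cores.odd_card_oddCore) (odd_cCore b)
  have hTb : T ≤ cCore b := le_cCore hTle hTn hTodd
  intro x hx
  obtain ⟨o, ho, n, hn, e⟩ := d.centralizer_decomp hS hb hb1 (mem_inf.1 hx).2
  have hn' : n ∈ E := mem_inf.2 ⟨by
    rw [show n = o⁻¹ * x by rw [e]; group]
    exact mul_mem (inv_mem (mem_sup_right ho)) (mem_sup_left hx), hn⟩
  rw [e]
  exact mul_mem ho (hTb (mem_sup_left (hEO hn')))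

/-- A proper subgroup containing `N(Z)` and all centralizers of involutions of `Z`. -/
theorem exists_big : ∃ M : Subgroup G, M ≠ ⊤ ∧ normalizer (zOne (S : Subgroup G) : Set G) ≤ M ∧
    ∀ b ∈ zOne (S : Subgroup G), b ≠ 1 → centralizer ({b} : Set G) ≤ M := by
  haveI : Fact (Nat.Prime 2) := ⟨Nat.prime_two⟩
  set Z := zOne (S : Subgroup G) with hZ
  obtain ⟨hWodd, -⟩ := Signalizer.solvableSignalizerTheorem 2 G Z (fun _ ha _ hb => zOne_comm ha hb)
    (fun a ha => ha.2.2) (d.card_zOne hS) cCore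
    (fun a _ _ => cCore_le a)
    (fun a _ _ hd => (Nat.not_even_iff_odd.2 (odd_cCore a)) (even_iff_two_dvd.2 hd))
    (fun a ha _ b hb x hx => cCore_conj_mem (zOne_le_centralizer ha (mem_centralizer_iff.2 fun y hy =>
      zOne_comm hy hb)) hx)
    (fun a _ _ => Cfsg.Agent.S0205.result (odd_cCore a)) (fun a ha _ b hb hb1 => d.balanced hS ha hb hb1)
  set W := ⨆ a : {a : G // a ∈ Z ∧ a ≠ 1}, cCore (a : G) with hW
  obtain ⟨z, hz, hz1⟩ := d.exists_ne_one (S := S)
  have hCN : centralizer (Z : Set G) ≤ normalizer (Z : Set G) := centralizer_le_normalizer _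
  have hmemW : ∀ b ∈ Z, b ≠ 1 → ∀ o ∈ cCore b, o ∈ W := fun b hb hb1 o ho =>
    mem_iSup_of_mem (S := fun a : {a : G // a ∈ Z ∧ a ≠ 1} => cCore (a : G)) ⟨b, hb, hb1⟩ ho
  by_cases hW0 : W = ⊥
  · refine ⟨normalizer (Z : Set G), d.normalizer_ne_top (S.2.to_le (zOne_le _)) fun e =>
      hz1 (mem_bot.1 (e.le hz)), le_rfl, fun b hb hb1 h hh => ?_⟩
    obtain ⟨o, ho, n, hn, rfl⟩ := d.centralizer_decomp hS hb hb1 hh
    have : o = 1 := mem_bot.1 (hW0.le (hmemW b hb hb1 o ho))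
    rw [this, one_mul]
    exact hCN hn
  · have hnorm : normalizer (Z : Set G) ≤ normalizer (W : Set G) := by
      intro g hg
      have hle : W ≤ W.comap (MulAut.conj g).toMonoidHom := iSup_le fun a x hx =>
        hmemW _ (((mem_normalizer_iff.1 hg) a).1 a.2.1) (fun e => a.2.2 (conj_eq_one_iff.1 e)) _
          (conj_cCore_mem hx)
      exact Fusion.mem_normalizer_of_forall fun x hx => hle hx
    refine ⟨normalizer (W : Set G), fun e => ?_, hnorm, fun b hb hb1 h hh => ?_⟩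
    · rcases d.simple W (normalizer_eq_top_iff.1 e) with h | h
      · exact hW0 h
      · exact hWodd (by rw [h, Subgroup.card_top]; exact even_iff_two_dvd.1 d.even)
    · obtain ⟨o, ho, n, hn, rfl⟩ := d.centralizer_decomp hS hb hb1 hh
      exact mul_mem (le_normalizer (hmemW b hb hb1 o ho)) (hnorm (hCN hn))

/-- A conjugate of `σ x` lies in any subgroup containing `N(Z)` and the centralizers of its involutions. -/
theorem conj_mem {M : Subgroup G} (hMC : ∀ b ∈ zOne (S : Subgroup G), b ≠ 1 → centralizer ({b} : Set G) ≤ M)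
    {x : G} (hx : x ∈ zOne (S : Subgroup G)) (hx1 : x ≠ 1) (g : G) : g * σ x * g⁻¹ ∈ M := by
  haveI : Fact (Nat.Prime 2) := ⟨Nat.prime_two⟩
  set y := g * σ x * g⁻¹ with hy
  have hxx : x * x = 1 := zOne_sq hx
  have hyy : y * y = 1 := by
    rw [hy, show g * σ x * g⁻¹ * (g * σ x * g⁻¹) = g * (σ x * σ x) * g⁻¹ by group, ← map_mul, hxx, map_one,
      mul_one, mul_inv_cancel]
  set r := x * y with hr
  have hxr : x * r * x⁻¹ = r⁻¹ := by
    rw [hr, inv_eq_of_mul_eq_one_left hxx, mul_inv_rev, inv_eq_of_mul_eq_one_left hxx,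
      inv_eq_of_mul_eq_one_left hyy, ← mul_assoc, hxx, one_mul]
  have hpow : ∀ j : ℕ, x * (r ^ j)⁻¹ = r ^ j * x := fun j => by
    calc x * (r ^ j)⁻¹ = (x * (r ^ j)⁻¹ * x⁻¹) * x := by group
      _ = r ^ j * x := by rw [← inv_pow, ← conj_pow, ← conj_inv, hxr, inv_inv]
  have hconjpow : ∀ j : ℕ, r ^ j * x * (r ^ j)⁻¹ = r ^ (2 * j) * x := fun j => by
    rw [mul_assoc, hpow, ← mul_assoc, two_mul, pow_add]
  have hyr : x * r = y := by rw [hr, ← mul_assoc, hxx, one_mul]
  have hrx' : r⁻¹ * x = y := by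
    rw [hr, mul_inv_rev, inv_eq_of_mul_eq_one_left hxx, inv_eq_of_mul_eq_one_left hyy, mul_assoc, hxx, mul_one]
  obtain ⟨m, hm | hm⟩ : ∃ m, orderOf r = 2 * m ∨ orderOf r = 2 * m + 1 :=
    ⟨orderOf r / 2, by omega⟩
  rotate_left
  · exfalso
    have h1 := hconjpow m
    have h2 : r ^ (2 * m) = r⁻¹ := eq_inv_of_mul_eq_one_left (by rw [← pow_succ, ← hm, pow_orderOf_eq_one])
    rw [h2, hrx'] at h1
    refine d.hyp.not_conj_of_two (n := 1) (by rw [pow_one]; exact hx.2.2) hx1 (g⁻¹ * r ^ m) ?_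
    calc g⁻¹ * r ^ m * x * (g⁻¹ * r ^ m)⁻¹ = g⁻¹ * (r ^ m * x * (r ^ m)⁻¹) * g := by group
      _ = σ x := by rw [h1, hy]; group
  set w := r ^ m with hw
  have hm0 : 0 < m := by have := orderOf_pos r; omega
  have hw1 : w ≠ 1 := fun e => by
    have := Nat.le_of_dvd hm0 (orderOf_dvd_of_pow_eq_one e); omega
  have hw2 : w⁻¹ = w := inv_eq_of_mul_eq_one_left (by rw [hw, ← pow_add, ← two_mul, ← hm, pow_orderOf_eq_one])
  have hxw : x * w = w * x := by
    have := hpow m
    rwa [← hw, hw2] at this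
  have hww : w * w = 1 := by
    calc w * w = w⁻¹ * w := by rw [hw2]
      _ = 1 := inv_mul_cancel w
  obtain ⟨z', hz', k, hk⟩ : ∃ z' ∈ zOne (S : Subgroup G), ∃ k : G, x * w = k * z' * k⁻¹ := by
    rcases Nat.even_or_odd' m with ⟨j, hj | hj⟩
    · refine ⟨x, hx, r ^ j, ?_⟩
      rw [hconjpow j, ← hj, ← hw, hxw]
    · refine ⟨σ x, (d.inv_zOne hS).smem x hx, r ^ (j + 1) * g, ?_⟩
      calc x * w = w * x := hxw
        _ = r ^ j * (r ^ (j + 1) * x) := by rw [← mul_assoc, ← pow_add, hw, hj]; congr 2; omega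
        _ = r ^ j * (x * (r ^ (j + 1))⁻¹) := by rw [hpow]
        _ = r ^ (j + 1) * (r⁻¹ * x) * (r ^ (j + 1))⁻¹ := by rw [pow_succ r j]; group
        _ = r ^ (j + 1) * g * σ x * (r ^ (j + 1) * g)⁻¹ := by rw [hrx', hy]; group
  set H := centralizer ({x} : Set G) with hH
  have hSH : (S : Subgroup G) ≤ H := le_centralizer_zOne hx
  have hwH : w ∈ H := mem_centralizer_singleton_iff.2 hxw.symm
  have hp2 : IsPGroup 2 (zpowers (⟨w, hwH⟩ : ↥H)) := IsPGroup.of_card_dvd_pow (n := 1) (by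
    rw [Nat.card_zpowers, pow_one]
    exact orderOf_dvd_of_pow_eq_one (Subtype.ext (by
      show w ^ 2 = 1
      rw [pow_two, hww])))
  obtain ⟨T, hT⟩ := hp2.exists_le_sylow
  obtain ⟨h, hh⟩ := MulAction.exists_smul_eq ↥H T (S.subtype hSH)
  have hwS : (h : G) * w * (h : G)⁻¹ ∈ (S : Subgroup G) := by
    have h1 : h * ⟨w, hwH⟩ * h⁻¹ ∈ ((h • T : Sylow 2 ↥H) : Subgroup ↥H) := by
      rw [Sylow.coe_subgroup_smul]
      exact Subgroup.smul_mem_pointwise_smul _ (MulAut.conj h) _ (hT (mem_zpowers _))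
    rw [hh] at h1
    exact h1
  have hhx : (h : G) * x * (h : G)⁻¹ = x := by
    rw [mem_centralizer_singleton_iff.1 h.2, mul_inv_cancel_right]
  have hxw' : (h : G) * (x * w) * (h : G)⁻¹ = x * ((h : G) * w * (h : G)⁻¹) := by
    calc (h : G) * (x * w) * (h : G)⁻¹ = ((h : G) * x * (h : G)⁻¹) * ((h : G) * w * (h : G)⁻¹) := by group
      _ = _ := by rw [hhx]
  set w' := (h : G) * w * (h : G)⁻¹ with hw'
  have hmemZ : w' ∈ zOne (S : Subgroup G) := by
    have h1 : x * w' ∈ zOne (S : Subgroup G) := by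
      have h2 := (d.zOne_closed hS).2 z' hz' ((h : G) * k)
      rw [show (h : G) * k * z' * ((h : G) * k)⁻¹ = (h : G) * (k * z' * k⁻¹) * (h : G)⁻¹ by group,
        ← hk, hxw'] at h2
      exact h2 (mul_mem (zOne_le _ hx) hwS)
    have := mul_mem hx h1
    rwa [← mul_assoc, hxx, one_mul] at this
  have hw'1 : w' ≠ 1 := fun e => hw1 (conj_eq_one_iff.1 e)
  have hhM : (h : G) ∈ M := hMC x hx hx1 h.2
  have hyw : y * w = w * y := by
    have hrw : r * w = w * r := (Commute.self_pow r m).eq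
    rw [← hyr]
    calc x * r * w = x * (w * r) := by rw [mul_assoc, hrw]
      _ = w * (x * r) := by rw [← mul_assoc, hxw, mul_assoc]
  have hy' : (h : G) * y * (h : G)⁻¹ ∈ centralizer ({w'} : Set G) := mem_centralizer_singleton_iff.2 (by
    rw [hw']
    calc (h : G) * y * (h : G)⁻¹ * ((h : G) * w * (h : G)⁻¹) = (h : G) * (y * w) * (h : G)⁻¹ := by group
      _ = (h : G) * (w * y) * (h : G)⁻¹ := by rw [hyw]
      _ = (h : G) * w * (h : G)⁻¹ * ((h : G) * y * (h : G)⁻¹) := by group)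
  have := mul_mem (mul_mem (inv_mem hhM) (hMC w' hmemZ hw'1 hy')) hhM
  simpa [mul_assoc] using this

end Min

theorem Min.false_of (d : Min σ τ) : False := by
  haveI : Fact (Nat.Prime 2) := ⟨Nat.prime_two⟩
  obtain ⟨S, hS⟩ := d.hyp.exists_inv_sylow 2
  obtain ⟨x, hx, hx1⟩ := d.exists_ne_one (S := S)
  obtain ⟨M, hMt, -, hMC⟩ := d.exists_big hS
  have hN : normalClosure ({σ x} : Set G) ≤ M := by
    rw [normalClosure, closure_le]
    intro v hv
    obtain ⟨a, ha, hcj⟩ := Group.mem_conjugatesOfSet_iff.1 hv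
    rw [Set.mem_singleton_iff] at ha
    obtain ⟨g, rfl⟩ := isConj_iff.1 (ha ▸ hcj)
    exact d.conj_mem hS hMC hx hx1 g
  rcases d.simple (normalClosure ({σ x} : Set G)) inferInstance with h | h
  · exact hx1 (σ.injective ((mem_bot.1 (h ▸ subset_normalClosure rfl)).trans (map_one σ).symm))
  · exact hMt (top_le_iff.1 (h ▸ hN))

end CfsgLib.FpfSThree
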