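import Cfsg.Agent.Lib.FpfSThree.Module
import Cfsg.Agent.Lib.FpfSThree.Basic
import Cfsg.Agent.Lib.Fusion.J2Simple.Frattini
import Cfsg.Agent.Lib.Solvable.Fitting

/-!
The solvable case: the group is the product of `O_{2',2}` and the fixed points of `σ`.
-/

set_option autoImplicit false
set_option linter.style.haveILetI false
set_option linter.unusedSectionVars false

namespace CfsgLib.FpfSThree

open Subgroup CfsgLib Cfsg
open scoped commutatorElement
open CfsgLib.Fusion.J2Simple.FrattTools (frattiniHom frattiniHom_mk eq_one_of_trivial_frattini mem_ker_frattiniHom)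

universe u

variable {V : Type u} [Group V]

/-- An automorphism of a group as a unit of the endomorphism ring of the additive group. -/
noncomputable def endUnits (hc : ∀ a b : V, a * b = b * a) :
    letI : CommGroup V := { ‹Group V› with mul_comm := hc }
    MulAut V →* (AddMonoid.End (Additive V))ˣ :=
  letI : CommGroup V := { ‹Group V› with mul_comm := hc }
  MonoidHom.toHomUnits
    { toFun := fun f => MonoidHom.toAdditive f.toMonoidHom
      map_one' := rfl
      map_mul' := fun _ _ => rfl }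

variable {G : Type u} [Group G] [Finite G] {σ τ : MulAut G}

theorem eq_one_of_cube (h : Hyp σ τ) {k : G} (hk : k ^ 3 = 1) : k = 1 := by
  rw [← orderOf_eq_one_iff]
  rcases (Nat.dvd_prime Nat.prime_three).1 (orderOf_dvd_of_pow_eq_one hk) with h1 | h1
  · exact h1
  · exact absurd (h1 ▸ orderOf_dvd_natCard k) h.three

namespace Hyp

variable [Group.IsSolvable G]

theorem core_step (h : Hyp σ τ) (hO : oddCore G = ⊥) (g : G) :
    ∃ q ∈ pCore 2 G, ∃ c ∈ fix σ, g = q * c := by
  haveI : Fact (Nat.Prime 2) := ⟨Nat.prime_two⟩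
  set Q := pCore 2 G with hQ
  haveI : Q.Characteristic := Cores.pCore_characteristic 2
  have hQi : Inv σ τ Q := h.inv_of_characteristic Q
  have hQp : IsPGroup 2 Q := Cores.isPGroup_pCore 2
  have hCQ : centralizer (Q : Set G) ≤ Q := Solvable.centralizer_pCore_le 2 hO
  -- the module
  set F := frattini ↥Q with hF
  set V := ↥Q ⧸ F with hV
  have hab : ∀ a b : V, a * b = b * a := by
    intro a b
    induction a using QuotientGroup.induction_on with | _ x => ?_
    induction b using QuotientGroup.induction_on with | _ y => ?_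
    rw [← QuotientGroup.mk_mul, ← QuotientGroup.mk_mul, QuotientGroup.eq,
      show (x * y)⁻¹ * (y * x) = ⁅y⁻¹, x⁻¹⁆ by rw [commutatorElement_def]; group]
    exact PGroup.commutator_le_frattini hQp (commutator_mem_commutator (mem_top _) (mem_top _))
  have hexp : ∀ a : V, a * a = 1 := by
    intro a
    induction a using QuotientGroup.induction_on with | _ x => ?_
    rw [← QuotientGroup.mk_mul, QuotientGroup.eq_one_iff, ← pow_two]
    exact PGroup.pow_mem_frattini hQp x
  letI : CommGroup V := { (inferInstance : Group V) with mul_comm := hab }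
  set e := endUnits hab with he
  have heinj : Function.Injective e := fun f f' hf => MulEquiv.ext fun v =>
    DFunLike.congr_fun (congrArg Units.val hf) (Additive.ofMul v)
  set s := frattiniHom ↥Q (h.rs hQi) with hs
  set β : G →* MulAut V := (frattiniHom ↥Q).comp MulAut.conjNormal with hβ
  have hβs : ∀ x : G, β (σ x) = s * β x * s⁻¹ := by
    intro x
    rw [hs, hβ, MonoidHom.comp_apply, MonoidHom.comp_apply, ← map_inv, ← map_mul, ← map_mul]
    refine congrArg _ (MulEquiv.ext fun q => Subtype.ext ?_)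
    show σ x * (q : G) * (σ x)⁻¹ = σ (x * ((h.rs hQi).symm q : G) * x⁻¹)
    rw [map_conj]
    congr 2
    exact (congrArg Subtype.val ((h.rs hQi).apply_symm_apply q)).symm
  -- the root equation
  have hfix : ∀ v : V, s v = v → v = 1 := by
    intro v hv
    induction v using QuotientGroup.induction_on with | _ x => ?_
    rw [hs, frattiniHom_mk, eq_comm, QuotientGroup.eq] at hv
    obtain ⟨c, hc, hcF⟩ := h.exists_fix_coset (N := F.map Q.subtype) (g := (x : G)) (by
      rintro _ ⟨y, hy, rfl⟩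
      exact ⟨h.rs hQi y, Subgroup.characteristic_iff_map_eq.1 (inferInstance : F.Characteristic) (h.rs hQi) ▸
        mem_map_of_mem _ hy, rfl⟩) ⟨_, hv, rfl⟩
    obtain ⟨f, hf, hfe⟩ := hcF
    have hfe' : (f : G) = (x : G)⁻¹ * c := hfe
    have hcQ : c ∈ Q := by
      have : c = (x : G) * f := by rw [hfe', mul_inv_cancel_left]
      exact this ▸ mul_mem x.2 f.2
    obtain ⟨n, hn⟩ := hQp ⟨c, hcQ⟩
    have hc1 : c = 1 := h.eq_one_of_two hc (congrArg Subtype.val hn)
    rw [QuotientGroup.eq_one_iff]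
    have : x = f⁻¹ := Subtype.ext (by rw [InvMemClass.coe_inv, hfe', hc1, mul_one, inv_inv])
    exact this ▸ F.inv_mem hf
  have hs3 : ∀ v : V, s (s (s v)) = v := by
    intro v
    induction v using QuotientGroup.induction_on with | _ x => ?_
    simp only [hs]
    exact congrArg _ (Subtype.ext (h.sigma (x : G)))
  have hsum : ∀ v : V, s (s v) * s v * v = 1 := by
    intro v
    refine hfix _ ?_
    rw [map_mul, map_mul, hs3, hab v (s (s v)), mul_assoc, hab v (s v), ← mul_assoc]
  have h2 : (1 : AddMonoid.End (Additive V)) + 1 = 0 :=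
    AddMonoidHom.ext fun v => Additive.toMul.injective (hexp v.toMul)
  have hu : ((e s : (AddMonoid.End (Additive V))ˣ) : AddMonoid.End (Additive V)) * e s + e s + 1 = 0 :=
    AddMonoidHom.ext fun v => Additive.toMul.injective (hsum v.toMul)
  -- the kernel lies in `Q`
  have hker : β.ker ≤ Q := by
    have hp : IsPGroup 2 β.ker := CfsgLib.Fusion.J2Simple.FrattTools.isPGroup_of_prime_elements fun ℓ hℓ hℓ2 x hx => by
      haveI := Fact.mk hℓ
      have h1 : MulAut.conjNormal (H := Q) (x : G) = 1 := by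
        refine eq_one_of_trivial_frattini hQp hℓ2 ?_ (mem_ker_frattiniHom.1 (MonoidHom.mem_ker.2 (MonoidHom.mem_ker.1 x.2)))
        rw [← map_pow, ← SubgroupClass.coe_pow, hx, Subgroup.coe_one, map_one]
      have hxQ : (x : G) ∈ Q := hCQ (mem_centralizer_iff.2 fun q hq => by
        have h2 := congrArg Subtype.val (DFunLike.congr_fun h1 ⟨q, hq⟩)
        rw [MulAut.conjNormal_apply, MulAut.one_apply] at h2
        exact (mul_inv_eq_iff_eq_mul.1 h2).symm)
      obtain ⟨n, hn⟩ := hQp ⟨x, hxQ⟩
      have hd : orderOf x ∣ 2 ^ n := orderOf_dvd_of_pow_eq_one (Subtype.ext (congrArg Subtype.val hn :))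
      have : orderOf x ∣ ℓ := orderOf_dvd_of_pow_eq_one hx
      rcases (Nat.dvd_prime hℓ).1 this with h3 | h3
      · exact orderOf_eq_one_iff.1 h3
      · exact absurd ((Nat.prime_dvd_prime_iff_eq hℓ Nat.prime_two).1 (hℓ.dvd_of_dvd_pow (h3 ▸ hd))) hℓ2
    exact Cores.le_pCore hp
  have hQker : Q ≤ β.ker := fun q hq => by
    rw [MonoidHom.mem_ker, hβ, MonoidHom.comp_apply, ← MonoidHom.mem_ker, mem_ker_frattiniHom]
    intro x
    refine PGroup.commutator_le_frattini hQp ?_
    rw [show x⁻¹ * MulAut.conjNormal q x = ⁅x⁻¹, (⟨q, hq⟩ : ↥Q)⁆ from Subtype.ext (by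
      rw [commutatorElement_def]
      simp only [Subgroup.coe_mul, Subgroup.coe_inv, MulAut.conjNormal_apply]
      group)]
    exact commutator_mem_commutator (mem_top _) (mem_top _)
  -- the quotient `L`
  set L := G ⧸ Q with hL
  have hL' : Hyp (qAut σ Q hQi.smem) (qAut τ Q hQi.tmem) := h.quot Q hQi
  set φ : L →* (AddMonoid.End (Additive V))ˣ := e.comp (QuotientGroup.lift Q β hQker) with hφ
  have hφinj : Function.Injective φ := by
    refine (injective_iff_map_eq_one φ).2 fun l => ?_
    induction l using QuotientGroup.induction_on with | _ x => ?_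
    intro hx
    rw [hφ, MonoidHom.comp_apply, QuotientGroup.lift_mk, ← map_one e] at hx
    exact (QuotientGroup.eq_one_iff _).2 (hker (heinj hx))
  have hφs : ∀ l : L, φ (qAut σ Q hQi.smem l) = e s * φ l * (e s)⁻¹ := by
    intro l
    induction l using QuotientGroup.induction_on with | _ x => ?_
    rw [qAut_mk, hφ, MonoidHom.comp_apply, MonoidHom.comp_apply, QuotientGroup.lift_mk, QuotientGroup.lift_mk, hβs,
      map_mul, map_mul, map_inv]
  set OL := oddCore L with hOL
  haveI : OL.Characteristic := Cores.pPrimeCore_characteristic 2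
  have hOi : Inv (qAut σ Q hQi.smem) (qAut τ Q hQi.tmem) OL := hL'.inv_of_characteristic OL
  have hcop : (Nat.card ↥(OL.map φ)).Coprime 6 := by
    rw [Subgroup.card_map_of_injective hφinj]
    exact Nat.Coprime.mul_right (k := Nat.card OL) (m := 2) (n := 3)
      (Nat.coprime_two_right.2 Cores.odd_card_oddCore)
      ((Nat.prime_three.coprime_iff_not_dvd.2 fun hd => hL'.three (hd.trans (Subgroup.card_subgroup_dvd_card OL))).symm)
  haveI : Finite ↥(OL.map φ) := Finite.of_surjective _ (φ.subgroupMap_surjective OL)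
  have hsol : Group.IsSolvable ↥(OL.map φ) :=
    Group.isSolvable_of_surjective (φ.subgroupMap_surjective OL)
  have hcomm := commute_of_root h2 (OL.map φ) inferInstance hsol hcop (e s) hu (by
    rintro _ ⟨l, hl, rfl⟩
    exact ⟨_, hOi.smem l hl, hφs l⟩)
  have hOfix : ∀ l ∈ OL, qAut σ Q hQi.smem l = l := fun l hl => hφinj (by
    rw [hφs, hcomm _ (mem_map_of_mem φ hl), mul_inv_cancel_right])
  have hfit : fittingSubgroup L ≤ OL := by
    rw [Cores.fittingSubgroup_eq_iSup_pCore]
    refine iSup_le fun q => ?_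
    haveI : Fact (q : ℕ).Prime := ⟨Nat.prime_of_mem_primeFactors q.2⟩
    by_cases hq : (q : ℕ) = 2
    · rw [hq]; exact (Cores.pCore_quotient_self (G := G) 2).le.trans bot_le
    · haveI : (pCore (q : ℕ) L).Normal := by
        haveI := Cores.pCore_characteristic (G := L) (q : ℕ); infer_instance
      refine Cores.le_oddCore_of_odd ?_
      obtain ⟨n, hn⟩ := IsPGroup.iff_card.1 (Cores.isPGroup_pCore (G := L) (q : ℕ))
      rw [hn]
      exact (Nat.Prime.odd_of_ne_two (Fact.out) hq).pow
  have hCL : centralizer (OL : Set L) ≤ OL :=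
    ((centralizer_le hfit).trans Solvable.centralizer_fittingSubgroup_le).trans hfit
  have hLfix : ∀ l : L, qAut σ Q hQi.smem l = l := by
    intro l
    have hk : l⁻¹ * qAut σ Q hQi.smem l ∈ OL := hCL (mem_centralizer_iff.2 fun r hr => by
      have h1 : l * r * l⁻¹ ∈ OL := Subgroup.Normal.conj_mem inferInstance r hr l
      have h2 := hOfix _ h1
      rw [map_mul, map_mul, map_inv, hOfix r hr] at h2
      set a := qAut σ Q hQi.smem l with ha
      calc r * (l⁻¹ * a) = l⁻¹ * (l * r * l⁻¹) * a := by group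
        _ = l⁻¹ * (a * r * a⁻¹) * a := by rw [h2]
        _ = l⁻¹ * a * r := by group)
    set a := qAut σ Q hQi.smem l with ha
    have hak : qAut σ Q hQi.smem (l⁻¹ * a) = l⁻¹ * a := hOfix _ hk
    set k := l⁻¹ * a with hkd
    have e1 : a = l * k := by rw [hkd, mul_inv_cancel_left]
    have e3 := hL'.sigma l
    rw [← ha, e1, map_mul, ← ha, hak, e1, map_mul, map_mul, ← ha, hak, e1] at e3
    have hk3 : k ^ 3 = 1 := by
      simpa [pow_succ, mul_assoc] using e3
    rw [e1, eq_one_of_cube hL' hk3, mul_one]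
  -- lift
  have hg : g⁻¹ * σ g ∈ Q := by
    rw [← QuotientGroup.eq, ← qAut_mk σ Q hQi.smem, hLfix]
  obtain ⟨c, hc, hcQ⟩ := h.exists_fix_coset hQi.smem hg
  refine ⟨g * c⁻¹, ?_, c, hc, by group⟩
  have := Subgroup.Normal.conj_mem (inferInstance : Q.Normal) _ (inv_mem hcQ) g
  rwa [show g * (g⁻¹ * c)⁻¹ * g⁻¹ = g * c⁻¹ by group] at this

theorem exists_decomp (h : Hyp σ τ) (g : G) : ∃ p ∈ pPrimePCore 2 G, ∃ c ∈ fix σ, g = p * c := by
  haveI : Fact (Nat.Prime 2) := ⟨Nat.prime_two⟩
  haveI : (oddCore G).Characteristic := Cores.pPrimeCore_characteristic 2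
  have hi := h.inv_of_characteristic (oddCore G)
  obtain ⟨q, hq, c', hc', e⟩ := core_step (h.quot (oddCore G) hi)
    (Cores.pPrimeCore_quotient_self 2) (g : G ⧸ oddCore G)
  obtain ⟨x, rfl⟩ := QuotientGroup.mk_surjective c'
  rw [mem_fix, qAut_mk, eq_comm, QuotientGroup.eq] at hc'
  obtain ⟨c, hc, hcO⟩ := h.exists_fix_coset hi.smem hc'
  refine ⟨g * c⁻¹, ?_, c, hc, by group⟩
  show ((g * c⁻¹ : G) : G ⧸ oddCore G) ∈ pCore 2 (G ⧸ oddCore G)
  rw [QuotientGroup.mk_mul, QuotientGroup.mk_inv, ← QuotientGroup.eq.2 hcO, e, mul_inv_cancel_right]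
  exact hq

theorem index_odd (h : Hyp σ τ) : ¬ 2 ∣ (pPrimePCore 2 G).index := by
  intro hd
  haveI : Fact (Nat.Prime 2) := ⟨Nat.prime_two⟩
  haveI : (pCore 2 (G ⧸ oddCore G)).Characteristic := Cores.pCore_characteristic 2
  haveI : (pPrimePCore 2 G).Normal := Subgroup.Normal.comap inferInstance _
  refine Nat.not_even_iff_odd.2 h.fix_odd (even_iff_two_dvd.2 (hd.trans ?_))
  rw [Subgroup.index_eq_card]
  refine Subgroup.card_dvd_of_surjective ((QuotientGroup.mk' (pPrimePCore 2 G)).comp (fix σ).subtype) fun x => ?_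
  obtain ⟨g, rfl⟩ := QuotientGroup.mk_surjective x
  obtain ⟨p, hp, c, hc, rfl⟩ := h.exists_decomp g
  refine ⟨⟨c, hc⟩, QuotientGroup.eq.2 ?_⟩
  show c⁻¹ * (p * c) ∈ pPrimePCore 2 G
  have := Subgroup.Normal.conj_mem (inferInstance : (pPrimePCore 2 G).Normal) p hp c⁻¹
  rwa [inv_inv, mul_assoc] at this

theorem sup_fix (h : Hyp σ τ) : pPrimePCore 2 G ⊔ fix σ = ⊤ := eq_top_iff.2 fun g _ => by
  obtain ⟨p, hp, c, hc, rfl⟩ := h.exists_decomp g
  exact mul_mem (mem_sup_left hp) (mem_sup_right hc)

/-- The Frattini argument at an invariant Sylow subgroup. -/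
theorem exists_frattini (h : Hyp σ τ) (S : Sylow 2 G) (g : G) :
    ∃ o ∈ oddCore G, ∃ n ∈ normalizer ((S : Subgroup G) : Set G), g = o * n := by
  haveI : Fact (Nat.Prime 2) := ⟨Nat.prime_two⟩
  haveI : (oddCore G).Characteristic := Cores.pPrimeCore_characteristic 2
  haveI : (pCore 2 (G ⧸ oddCore G)).Characteristic := Cores.pCore_characteristic 2
  haveI hPn : (pPrimePCore 2 G).Normal := Subgroup.Normal.comap inferInstance _
  set P := pPrimePCore 2 G with hP
  have hSP : (S : Subgroup G) ≤ P := by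
    intro x hx
    obtain ⟨n, hn⟩ := S.2 ⟨x, hx⟩
    rw [← QuotientGroup.eq_one_iff, ← orderOf_eq_one_iff]
    have h1 : orderOf (x : G ⧸ P) ∣ P.index := by
      rw [Subgroup.index_eq_card]; exact orderOf_dvd_natCard _
    have h2 : orderOf (x : G ⧸ P) ∣ 2 ^ n := orderOf_dvd_of_pow_eq_one (by
      rw [← QuotientGroup.mk_pow, show x ^ 2 ^ n = 1 from congrArg Subtype.val hn]; rfl)
    obtain ⟨k, _, hk⟩ := (Nat.dvd_prime_pow Nat.prime_two).1 h2
    rcases Nat.eq_zero_or_pos k with rfl | hk0
    · exact hk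
    · exact absurd (((dvd_pow_self 2 hk0.ne').trans (hk ▸ dvd_rfl)).trans h1) h.index_odd
  have hfr := Sylow.normalizer_sup_eq_top (S.subtype hSP)
  rw [Sylow.coe_subtype, map_subgroupOf_eq_of_le hSP] at hfr
  -- `P` is the product of the odd core and `S`
  have hPS : P ≤ oddCore G ⊔ (S : Subgroup G) := by
    have hπ := QuotientGroup.mk'_surjective (oddCore G)
    have h1 : pCore 2 (G ⧸ oddCore G) ≤ (S : Subgroup G).map (QuotientGroup.mk' (oddCore G)) := by
      rw [← Sylow.coe_mapSurjective hπ]; exact Cores.pCore_le_sylow _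
    intro x hx
    obtain ⟨s, hs, e⟩ := h1 hx
    have h2 : s⁻¹ * x ∈ oddCore G := QuotientGroup.eq.1 e
    rw [show x = s * (s⁻¹ * x) by group]
    exact mul_mem (mem_sup_right hs) (mem_sup_left h2)
  have hall : oddCore G ⊔ normalizer ((S : Subgroup G) : Set G) = ⊤ :=
    eq_top_iff.2 (hfr.ge.trans (sup_le le_sup_right (hPS.trans (sup_le_sup_left le_normalizer _))))
  obtain ⟨o, ho, n, hn, e⟩ := Subgroup.mem_sup_of_normal_left.1 (hall ▸ mem_top g : g ∈ oddCore G ⊔ _)
  exact ⟨o, ho, n, hn, e.symm⟩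

end Hyp

end CfsgLib.FpfSThree
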